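import Cfsg.Agent.H618.LD.Prin

/-!
# S4910, row Fi22 (helper618): existence of the principal 11-block and 13-block data
-/

set_option autoImplicit false
set_option linter.unusedSectionVars false

open Cfsg

namespace Cfsg.Agent.H618.LD.Prin

open Subgroup
open Cfsg.Agent.LThreeFi22 Cfsg.Agent.H618.LD.Tw Cfsg.Agent.H618.LD.Ev Cfsg.Agent.H618.LD.Blk Cfsg.Agent.H618.LD.Num
  Cfsg.Agent.H618.LD.Mom
open Cfsg.Agent.SmallSimple.ThetaSetup Cfsg.Agent.SmallSimple.ThetaOrtho
open Cfsg.Agent.KFacts.FiTT (TK)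

universe u

variable {G : Type u} [Group G] [Finite G]

theorem card_sylow {p : ℕ} [Fact p.Prime] (P : Sylow p G) {N : ℕ} (hN : Nat.card G = N) (h1 : p ∣ N)
    (h2 : ¬ p ^ 2 ∣ N) : Nat.card P = p := by
  have hp : p.Prime := Fact.out
  rw [P.card_eq_multiplicity, hN]
  have hN0 : N ≠ 0 := by rw [← hN]; exact Nat.card_pos.ne'
  have h3 : N.factorization p = 1 := by
    have h4 := (hp.pow_dvd_iff_le_factorization (k := 1) hN0).1 (by rwa [pow_one])
    have h5 : ¬ 2 ≤ N.factorization p := fun h => h2 ((hp.pow_dvd_iff_le_factorization hN0).2 h)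
    omega
  rw [h3, pow_one]

theorem card_comp {p : ℕ} [Fact p.Prime] {P : Sylow p G} {K : Subgroup G} (hK : IsComp p (P : Subgroup G) K)
    (hP : Nat.card P = p) {x : G} (hx : x ∈ P) (hx1 : x ≠ 1) {c : ℕ}
    (hc : Nat.card (centralizer ({x} : Set G)) = p * c) : Nat.card K = c := by
  have hp : p.Prime := Fact.out
  have h1 := Nat.card_congr (prodEquiv hK hP).toEquiv
  have h3 : Nat.card (centralizer ((P : Subgroup G) : Set G)) = p * c := by
    rw [← Blocks.CyclicOrtho.centralizer_eq P hP hx hx1, hc]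
  rw [Nat.card_prod] at h1
  have h2 : Nat.card P * Nat.card K = p * c := h1.trans h3
  rw [hP] at h2
  exact Nat.eq_of_mul_eq_mul_left hp.pos h2

theorem exists_D11 [Fact (Nat.Prime 11)] (e : G ≃* Spor.Fi22) :
    ∃ (P : Sylow 11 G) (K : Subgroup G) (NE X : Finset (IrrCharacter G)) (ε : IrrCharacter G → ℤ) (d : ℤ) (k : G),
      D11 (TK e) P K NE X ε d k := by
  have C := Inst.ctx e
  have hN := C.card
  let P : Sylow 11 G := default
  have hP : Nat.card P = 11 := card_sylow P hN (by norm_num) (by norm_num)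
  obtain ⟨x, hx, hx1⟩ := exists_ne_one (P := (P : Subgroup G)) hP
  have hox : orderOf x = 11 := Blocks.CyclicOrtho.orderOf_eq P hP hx hx1
  have hc := H713.Spor.Fi22.cent_11 e hox
  obtain ⟨K, hK⟩ := exists_isComp P hP
  have h2 : Nat.card K = 2 := card_comp hK hP hx hx1 hc
  obtain ⟨k, hk⟩ := H713.Spor.Fi22.exists_eleven C (y := x) (by rw [← hox, pow_orderOf_eq_one])
  have hkK : k ∈ K := by
    refine (hK k).2 ⟨?_, reg_T C (by norm_num) hk.1⟩
    rw [← Blocks.CyclicOrtho.centralizer_eq P hP hx hx1]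
    exact mem_centralizer_singleton_iff.2 hk.2.symm
  have he := relIndex_eq hP hK hx hx1 hN hc (e := 5) (by norm_num) (by norm_num)
  obtain ⟨NE, X, ε, d, B⟩ := exists_pb hP hK he (t := 2) (by norm_num) (by norm_num)
  exact ⟨P, K, NE, X, ε, d, k, hP, hK, h2, hkK, hk.1, B⟩

theorem exists_D13 [Fact (Nat.Prime 13)] (e : G ≃* Spor.Fi22) :
    ∃ (P : Sylow 13 G) (K : Subgroup G) (NE X : Finset (IrrCharacter G)) (ε : IrrCharacter G → ℤ) (d : ℤ),
      D13 P K NE X ε d := by
  have C := Inst.ctx e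
  have hN := C.card
  let P : Sylow 13 G := default
  have hP : Nat.card P = 13 := card_sylow P hN (by norm_num) (by norm_num)
  obtain ⟨x, hx, hx1⟩ := exists_ne_one (P := (P : Subgroup G)) hP
  have hox : orderOf x = 13 := Blocks.CyclicOrtho.orderOf_eq P hP hx hx1
  have hc := H713.Spor.Fi22.cent_13 e hox
  obtain ⟨K, hK⟩ := exists_isComp P hP
  have h2 : Nat.card K = 1 := card_comp hK hP hx hx1 (c := 1) (by rw [mul_one]; exact hc)
  have he := relIndex_eq hP hK hx hx1 hN hc (e := 6) (by norm_num) (by norm_num)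
  obtain ⟨NE, X, ε, d, B⟩ := exists_pb hP hK he (t := 2) (by norm_num) (by norm_num)
  exact ⟨P, K, NE, X, ε, d, hP, hK, h2, B⟩

theorem D13.mem [Fact (Nat.Prime 13)] {P : Sylow 13 G} {K : Subgroup G} {NE X : Finset (IrrCharacter G)}
    {ε : IrrCharacter G → ℤ} {d : ℤ} (D : D13 P K NE X ε d) {χ : IrrCharacter G} (h : ¬ (13 : ℤ) ∣ dg χ) :
    χ ∈ NE ∨ χ ∈ X := by
  by_contra hcon
  exact h (dvd_of_bot D.hP D.hK D.h1 fun h1 => hcon ((D.B.mem χ).1 h1))

/-- residues modulo 11 -/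
theorem res11 [IsSimpleGroup G] (hna : ¬ IsMulCommutative G) (e : G ≃* Spor.Fi22) (χ : IrrCharacter G) :
    1123 / 2 ^ (charDegree (χ : G → ℂ) % 11) % 2 = 1 := by
  have : Fact (Nat.Prime 11) := ⟨by norm_num⟩
  have C := Inst.ctx e
  obtain ⟨x, hx⟩ := exists_prime_orderOf_dvd_card' (G := G) 11 (by rw [C.card]; norm_num)
  have h := H531.MB.residue hna (p := 11) (by norm_num) C.card hx (k := 2)
    (H713.Spor.Fi22.cent_11 e hx) 5 2 [(0, 0), (1, 2), (5, -1), (6, 1), (10, -2)] (by decide +kernel) χ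
  simp only [List.map_cons, List.map_nil, List.mem_cons, List.not_mem_nil, or_false] at h
  rcases h with h | h | h | h | h <;> rw [h] <;> norm_num

/-- residues modulo 13 -/
theorem res13 [IsSimpleGroup G] (hna : ¬ IsMulCommutative G) (e : G ≃* Spor.Fi22) (χ : IrrCharacter G) :
    4291 / 2 ^ (charDegree (χ : G → ℂ) % 13) % 2 = 1 := by
  have : Fact (Nat.Prime 13) := ⟨by norm_num⟩
  have C := Inst.ctx e
  obtain ⟨x, hx⟩ := exists_prime_orderOf_dvd_card' (G := G) 13 (by rw [C.card]; norm_num)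
  have h := H531.MB.residue hna (p := 13) (by norm_num) C.card hx (k := 1)
    (H713.Spor.Fi22.cent_13 e hx) 6 2 [(0, 0), (1, 2), (6, -1), (7, 1), (12, -2)] (by decide +kernel) χ
  simp only [List.map_cons, List.map_nil, List.mem_cons, List.not_mem_nil, or_false] at h
  rcases h with h | h | h | h | h <;> rw [h] <;> norm_num

end Cfsg.Agent.H618.LD.Prin
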