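import Mathlib
import Cfsg.Agent.SmallSimple.DegreeSearch

/-!
# S4910, row Fi22 (helper618): the numerical search, tools

Signed degrees `c` are coded as `c + 10 ^ 8`, eigenvalues `w` as `w + 3510`.
-/

set_option autoImplicit false

namespace Cfsg.Agent.H618.LD.Num

/-! ### loops -/

def allL {α : Type} (f : α → Bool) (l : List α) : Bool := List.rec true (fun a _ ih => cond (f a) ih false) l

theorem cond_tf {a b : Bool} : cond a b false = true ↔ a = true ∧ b = true := by cases a <;> simp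

theorem cond_ft {a b : Bool} : cond a b true = true ↔ (a = true → b = true) := by cases a <;> simp

theorem cond_or {b x y : Bool} (h : cond b x y = true) : x = true ∨ y = true := by cases b <;> simp at h <;> tauto

theorem allL_iff {α : Type} {f : α → Bool} {l : List α} : allL f l = true ↔ ∀ a ∈ l, f a = true := by
  induction l with
  | nil => simp [allL]
  | cons a l ih =>
    have h : allL f (a :: l) = cond (f a) (allL f l) false := rfl
    rw [h, cond_tf, ih]
    simp

def allR (f : ℕ → Bool) (n : ℕ) : Bool := Nat.rec true (fun k ih => cond (f k) ih false) n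

theorem allR_iff {f : ℕ → Bool} {n : ℕ} : allR f n = true ↔ ∀ k < n, f k = true := by
  induction n with
  | zero => simp [allR]
  | succ n ih =>
    have h : allR f (n + 1) = cond (f n) (allR f n) false := rfl
    rw [h, cond_tf, ih]
    constructor
    · rintro ⟨h1, h2⟩ k hk
      rcases Nat.lt_succ_iff_lt_or_eq.1 hk with h3 | h3
      · exact h2 k h3
      · rw [h3]; exact h1
    · intro h1
      exact ⟨h1 n (Nat.lt_succ_self n), fun k hk => h1 k (Nat.lt_succ_of_lt hk)⟩

def tails (f : ℕ → List ℕ → Bool) (l : List ℕ) : Bool :=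
  List.rec true (fun a l ih => cond (f a (a :: l)) ih false) l

theorem tails_spec {f : ℕ → List ℕ → Bool} {l : List ℕ} (h : tails f l = true) {l1 l2 : List ℕ} {a : ℕ}
    (hl : l = l1 ++ a :: l2) : f a (a :: l2) = true := by
  induction l generalizing l1 with
  | nil => simp at hl
  | cons b l ih =>
    have h' : tails f (b :: l) = cond (f b (b :: l)) (tails f l) false := rfl
    rw [h', cond_tf] at h
    cases l1 with
    | nil =>
      rw [List.nil_append] at hl
      injection hl with h1 h2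
      subst h1 h2
      exact h.1
    | cons x l1 =>
      rw [List.cons_append] at hl
      injection hl with h1 h2
      exact ih h.2 h2

def frc (i : ℕ) (f : ℕ → Bool) : Bool := Nat.rec (f 0) (fun n _ => f (Nat.succ n)) i

theorem frc_eq (i : ℕ) (f : ℕ → Bool) : frc i f = f i := by cases i <;> rfl

/-- the absolute value of the coded number -/
def ab (x : ℕ) : ℕ := Nat.add (Nat.sub x 100000000) (Nat.sub 100000000 x)

/-- the code -/
def cd (c : ℤ) : ℕ := (c + 100000000).toNat

theorem cd_cast {c : ℤ} (h : c.natAbs < 100000000) : (cd c : ℤ) = c + 100000000 := by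
  unfold cd
  omega

theorem ab_cd {c : ℤ} (h : c.natAbs < 100000000) : ab (cd c) = c.natAbs := by
  have h1 := cd_cast h
  unfold ab
  simp only [Nat.add_eq, Nat.sub_eq]
  omega

theorem cd_inj {c c' : ℤ} (h : c.natAbs < 100000000) (h' : c'.natAbs < 100000000) (hc : cd c = cd c') : c = c' := by
  have h1 := cd_cast h
  have h2 := cd_cast h'
  rw [hc] at h1
  omega

/-! ### triples -/

def tri (D : List ℕ) (K : ℕ) (g : ℕ → ℕ → ℕ → ℕ → Bool) : Bool :=
  tails (fun a l => tails (fun b l' => allL (fun c => g a b c (Nat.sub K (Nat.add a (Nat.add b c)))) l') l) D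

theorem exists_suffix {D : List ℕ} (hD : D.Pairwise fun x y => ab x < ab y) {a b : ℕ} (ha : a ∈ D) (hb : b ∈ D)
    (hab : ab a ≤ ab b) : ∃ l1 l2, D = l1 ++ a :: l2 ∧ b ∈ a :: l2 := by
  obtain ⟨l1, l2, rfl⟩ := List.append_of_mem ha
  refine ⟨l1, l2, rfl, ?_⟩
  rw [List.mem_append] at hb
  rcases hb with hb | hb
  · exfalso
    have h1 := (List.pairwise_append.1 hD).2.2 b hb a List.mem_cons_self
    omega
  · exact hb

theorem pairwise_suffix {D : List ℕ} (hD : D.Pairwise fun x y => ab x < ab y) {l1 l2 : List ℕ} (h : D = l1 ++ l2) :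
    l2.Pairwise fun x y => ab x < ab y := by
  rw [h] at hD
  exact (List.pairwise_append.1 hD).2.1

theorem tri_spec {D : List ℕ} {K : ℕ} {g : ℕ → ℕ → ℕ → ℕ → Bool} (hD : D.Pairwise fun x y => ab x < ab y)
    (h : tri D K g = true) {a b c : ℕ} (ha : a ∈ D) (hb : b ∈ D) (hc : c ∈ D) (hab : ab a ≤ ab b) (hbc : ab b ≤ ab c) :
    g a b c (K - (a + (b + c))) = true := by
  obtain ⟨l1, l2, h1, h2⟩ := exists_suffix hD ha hb hab
  have hs := pairwise_suffix hD h1
  have hca : c ∈ a :: l2 := by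
    obtain ⟨l1', l2', h1', h2'⟩ := exists_suffix hD ha hc (hab.trans hbc)
    have : a :: l2 = a :: l2' := by
      -- the position of `a` is unique
      have hnd : D.Nodup := hD.imp fun {x y} hxy hxy' => by subst hxy'; exact lt_irrefl _ hxy
      rw [h1] at h1' hnd
      have h3 := List.append_eq_append_iff.1 h1'
      rcases h3 with ⟨w, h4, h5⟩ | ⟨w, h4, h5⟩
      · cases w with
        | nil => simpa using h5
        | cons x w =>
          exfalso
          rw [List.cons_append] at h5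
          injection h5 with h6 h7
          subst h6
          rw [h7] at hnd
          have h8 := (List.nodup_append.1 hnd).2.1
          rw [List.nodup_cons] at h8
          exact h8.1 (by simp)
      · cases w with
        | nil => simpa using h5.symm
        | cons x w =>
          exfalso
          rw [List.cons_append] at h5
          injection h5 with h6 h7
          subst h6
          rw [h4] at hnd
          have h8 := (List.nodup_append.1 hnd).2.2 a (by simp) a (by simp)
          exact h8 rfl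
    rw [this]
    exact h2'
  obtain ⟨m1, m2, h3, h4⟩ := exists_suffix hs h2 hca hbc
  have h5 := tails_spec h h1
  have h6 := tails_spec h5 h3
  have h7 := allL_iff.1 h6 c h4
  exact h7

/-! ### the table -/

def lk (t : List (ℕ × List ℕ)) (d : ℕ) : Option (List ℕ) :=
  List.rec none (fun p _ ih => cond (Nat.beq p.1 d) (some p.2) ih) t

theorem lk_mem {t : List (ℕ × List ℕ)} {d : ℕ} {ws : List ℕ} (h : lk t d = some ws) : (d, ws) ∈ t := by
  induction t with
  | nil => exact absurd h (by simp [lk])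
  | cons p t ih =>
    have h' : lk (p :: t) d = cond (Nat.beq p.1 d) (some p.2) (lk t d) := rfl
    rw [h'] at h
    cases h1 : Nat.beq p.1 d with
    | true =>
      rw [h1] at h
      have h2 : p.1 = d := Nat.eq_of_beq_eq_true h1
      have h3 : p.2 = ws := Option.some.inj h
      rw [← h2, ← h3]
      exact List.mem_cons_self
    | false =>
      rw [h1] at h
      exact List.mem_cons_of_mem _ (ih h)

def withL (t : List (ℕ × List ℕ)) (x : ℕ) (f : List ℕ → Bool) : Bool := Option.rec false f (lk t (ab x))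

theorem withL_spec {t : List (ℕ × List ℕ)} {x : ℕ} {f : List ℕ → Bool} (h : withL t x f = true) :
    ∃ ws, (ab x, ws) ∈ t ∧ f ws = true := by
  unfold withL at h
  cases h1 : lk t (ab x) with
  | none => rw [h1] at h; exact absurd h (by simp)
  | some ws =>
    rw [h1] at h
    exact ⟨ws, lk_mem h1, h⟩

def memN (x : ℕ) (l : List ℕ) : Bool := List.rec false (fun a _ ih => cond (Nat.beq a x) true ih) l

theorem memN_spec {x : ℕ} {l : List ℕ} (h : memN x l = true) : x ∈ l := by
  induction l with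
  | nil => exact absurd h (by simp [memN])
  | cons a l ih =>
    have h' : memN x (a :: l) = cond (Nat.beq a x) true (memN x l) := rfl
    rw [h'] at h
    cases h1 : Nat.beq a x with
    | true =>
      rw [Nat.eq_of_beq_eq_true h1]
      exact List.mem_cons_self
    | false =>
      rw [h1] at h
      exact List.mem_cons_of_mem _ (ih h)

/-- the numerical facts on an irreducible character of degree `d` with eigenvalue `w` -/
structure Adm (d : ℕ) (w : ℤ) : Prop where
  dvd : d ∣ 64561751654400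
  sq : d * d < 64561751654400
  one : 1 < d
  bd : w.natAbs < 3510
  ex : ∃ (v : ℤ) (s r : ℕ), w * d = 3510 * v ∧ v * v ≤ 18393661440 ∧ v.natAbs ≤ s ∧ s ≤ d ∧ v.natAbs ≤ r ∧ r ≤ d ∧
    (2 : ℤ) ∣ s - v ∧ (2 : ℤ) ∣ r - v ∧ (2 : ℤ) ∣ d - v ∧ w * v + 2100 * d = 1386 * s + 4224 * r

/-- the test with `aw = |w|`, `av = |v|` -/
def okx (d aw av : ℕ) : Bool :=
  cond (Nat.beq (Nat.mul aw d) (Nat.mul 3510 av)) (cond (Nat.ble (Nat.mul av av) 18393661440)
    (cond (Nat.beq (Nat.mod (Nat.add d av) 2) 0) (cond (Nat.ble (Nat.mul 5610 av) (Nat.add (Nat.mul aw av) (Nat.mul 2100 d)))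
      (frc (Nat.sub (Nat.add (Nat.mul aw av) (Nat.mul 2100 d)) (Nat.mul 5610 av)) fun X =>
        cond (Nat.beq (Nat.mod X 132) 0) (frc (Nat.div X 132) fun Q => frc (Nat.div (Nat.sub d av) 2) fun m =>
          frc (Nat.mod Q 21) fun r => cond (Nat.ble (Nat.mul 64 r) Q) (cond (Nat.ble r m) (Nat.ble Q (Nat.mul 85 m)) false) false)
          false) false) false) false) false

/-- the test for the coded eigenvalue -/
def okw (d w : ℕ) : Bool :=
  frc (Nat.add (Nat.sub w 3510) (Nat.sub 3510 w)) fun aw => frc (Nat.div (Nat.mul aw d) 3510) fun av => okx d aw av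

theorem ble_of_le {a b : ℕ} (h : a ≤ b) : Nat.ble a b = true := by rw [Nat.ble_eq]; exact h

theorem beq_of_eq {a b : ℕ} (h : a = b) : Nat.beq a b = true := by rw [h]; exact Nat.beq_refl b

theorem okx_of {d aw av s r : ℕ} (h1 : aw * d = 3510 * av) (h2 : av * av ≤ 18393661440) (h3 : av ≤ s) (h4 : s ≤ d)
    (h5 : av ≤ r) (h6 : r ≤ d) (h7 : 2 ∣ s - av) (h8 : 2 ∣ r - av) (h9 : 2 ∣ d - av)
    (h10 : aw * av + 2100 * d = 1386 * s + 4224 * r) : okx d aw av = true := by
  obtain ⟨s', hs'⟩ := h7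
  obtain ⟨r', hr'⟩ := h8
  obtain ⟨m, hm⟩ := h9
  have es : s = av + 2 * s' := by omega
  have er : r = av + 2 * r' := by omega
  have ed : d = av + 2 * m := by omega
  have hs'm : s' ≤ m := by omega
  have hr'm : r' ≤ m := by omega
  have hX : aw * av + 2100 * d = 5610 * av + 132 * (21 * s' + 64 * r') := by
    rw [h10, es, er]; ring
  unfold okx
  simp only [Nat.add_eq, Nat.mul_eq, Nat.sub_eq, cond_tf, frc_eq]
  refine ⟨beq_of_eq h1, ble_of_le h2, beq_of_eq ?_, ble_of_le ?_, ?_⟩
  · show (d + av) % 2 = 0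
    omega
  · rw [hX]; omega
  · have hX' : aw * av + 2100 * d - 5610 * av = 132 * (21 * s' + 64 * r') := by rw [hX]; omega
    rw [hX']
    refine ⟨beq_of_eq ?_, ?_⟩
    · show 132 * (21 * s' + 64 * r') % 132 = 0
      omega
    · have hQ : Nat.div (132 * (21 * s' + 64 * r')) 132 = 21 * s' + 64 * r' := by
        show 132 * (21 * s' + 64 * r') / 132 = _
        omega
      have hM : Nat.div (d - av) 2 = m := by
        show (d - av) / 2 = m
        omega
      rw [hQ, hM]
      have hR : Nat.mod (21 * s' + 64 * r') 21 = r' % 21 := by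
        show (21 * s' + 64 * r') % 21 = _
        omega
      rw [hR]
      exact ⟨ble_of_le (by omega), ble_of_le (by omega), ble_of_le (by omega)⟩

theorem okw_of_adm {d : ℕ} {w : ℤ} (h : Adm d w) : okw d (w + 3510).toNat = true := by
  obtain ⟨v, s, r, h1, h2, h3, h4, h5, h6, h7, h8, h9, h10⟩ := h.ex
  have hbd := h.bd
  have hd := h.one
  have e1 : (w + 3510).toNat - 3510 + (3510 - (w + 3510).toNat) = w.natAbs := by omega
  have e2 : w.natAbs * d = 3510 * v.natAbs := by
    have := congrArg Int.natAbs h1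
    rw [Int.natAbs_mul, Int.natAbs_mul] at this
    simpa using this
  have e3 : w.natAbs * d / 3510 = v.natAbs := by
    rw [e2]; exact Nat.mul_div_cancel_left _ (by norm_num)
  have e4 : w * v = ((w.natAbs * v.natAbs : ℕ) : ℤ) := by
    have hd0 : (0 : ℤ) < d := by omega
    have h11 : 0 ≤ w * v := by
      have h12 : 0 ≤ (w * v) * 3510 := by
        have : (w * v) * 3510 = w * w * d := by linear_combination -w * h1
        rw [this]
        exact mul_nonneg (mul_self_nonneg w) hd0.le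
      linarith
    rw [Nat.cast_mul, Int.natCast_natAbs, Int.natCast_natAbs, ← abs_mul, abs_of_nonneg h11]
  unfold okw
  simp only [Nat.add_eq, Nat.mul_eq, Nat.sub_eq, frc_eq]
  rw [e1]
  show okx d w.natAbs (w.natAbs * d / 3510) = true
  rw [e3]
  refine okx_of e2 ?_ h3 h4 h5 h6 ?_ ?_ ?_ ?_
  · have : v * v = ((v.natAbs * v.natAbs : ℕ) : ℤ) := by rw [Int.natAbs_mul_self]
    rw [this] at h2
    exact_mod_cast h2
  · omega
  · omega
  · omega
  · rw [e4] at h10
    exact_mod_cast h10

/-- the check of a row of the table -/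
def chkRow (rs : ℕ → ℕ → Bool) (d : ℕ) (ws : List ℕ) : Bool :=
  frc (Nat.div 3510 (Nat.gcd 3510 d)) fun q => frc (Nat.div 3509 q) fun h => frc (Nat.sub 3510 (Nat.mul q h)) fun o =>
    allR (fun u => frc (Nat.add (Nat.mul q u) o) fun w => cond (rs d w) (cond (okw d w) (memN w ws) true) true)
      (Nat.add (Nat.mul 2 h) 1)

theorem chkRow_spec {rs : ℕ → ℕ → Bool} {d : ℕ} {ws : List ℕ} (h : chkRow rs d ws = true) {w : ℤ} (ha : Adm d w)
    (hr : rs d (w + 3510).toNat = true) : (w + 3510).toNat ∈ ws := by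
  unfold chkRow at h
  simp only [Nat.add_eq, Nat.mul_eq, Nat.sub_eq, frc_eq] at h
  rw [allR_iff] at h
  have hbd := ha.bd
  set q := Nat.div 3510 (Nat.gcd 3510 d) with hq
  have hq' : q = 3510 / Nat.gcd 3510 d := rfl
  have hg : Nat.gcd 3510 d ∣ 3510 := Nat.gcd_dvd_left _ _
  have hg0 : 0 < Nat.gcd 3510 d := Nat.gcd_pos_of_pos_left _ (by norm_num)
  have hqm : q * Nat.gcd 3510 d = 3510 := Nat.div_mul_cancel hg
  have hq0 : 0 < q := by
    rcases Nat.eq_zero_or_pos q with h0 | h0
    · rw [h0] at hqm; omega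
    · exact h0
  -- `q ∣ w`
  have hqw : q ∣ w.natAbs := by
    obtain ⟨v, s, r, h1, -⟩ := ha.ex
    have e2 : w.natAbs * d = 3510 * v.natAbs := by
      have := congrArg Int.natAbs h1
      rw [Int.natAbs_mul, Int.natAbs_mul] at this
      simpa using this
    have hcop : Nat.Coprime q (d / Nat.gcd 3510 d) := Nat.coprime_div_gcd_div_gcd hg0
    have hd' : d / Nat.gcd 3510 d * Nat.gcd 3510 d = d := Nat.div_mul_cancel (Nat.gcd_dvd_right 3510 d)
    refine hcop.dvd_of_dvd_mul_right ⟨v.natAbs, ?_⟩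
    apply Nat.eq_of_mul_eq_mul_right hg0
    calc w.natAbs * (d / Nat.gcd 3510 d) * Nat.gcd 3510 d = w.natAbs * d := by rw [mul_assoc, hd']
      _ = 3510 * v.natAbs := e2
      _ = (q * Nat.gcd 3510 d) * v.natAbs := by rw [hqm]
      _ = q * v.natAbs * Nat.gcd 3510 d := by ring
  obtain ⟨z, hz⟩ : ∃ z : ℤ, w = q * z := by
    obtain ⟨z, hz⟩ := Int.natCast_dvd.2 hqw
    exact ⟨z, hz⟩
  set hh := Nat.div 3509 q with hhh
  have hhd : hh = 3509 / q := rfl
  have hzh : z.natAbs ≤ hh := by
    rw [hhd, Nat.le_div_iff_mul_le hq0]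
    have h3 : w.natAbs = q * z.natAbs := by rw [hz, Int.natAbs_mul, Int.natAbs_natCast]
    rw [mul_comm, ← h3]
    omega
  have hqh : q * hh ≤ 3509 := by rw [hhd]; exact Nat.mul_div_le 3509 q
  have h4 := h (z + hh).toNat (by omega)
  have h5 : q * (z + hh).toNat + (3510 - q * hh) = (w + 3510).toNat := by
    have h6 : ((z + hh).toNat : ℤ) = z + hh := by omega
    have h7 : ((q * (z + hh).toNat + (3510 - q * hh) : ℕ) : ℤ) = w + 3510 := by
      rw [Nat.cast_add, Nat.cast_mul, h6, Nat.cast_sub (by omega), hz]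
      push_cast
      ring
    omega
  rw [h5, cond_ft, cond_ft] at h4
  exact memN_spec (h4 hr (okw_of_adm ha))

/-! ### the inner loops -/

/-- the number of occurrences -/
def cnt (A x y z u : ℕ) : ℕ := Nat.add (cond (Nat.beq x A) 1 0) (Nat.add (cond (Nat.beq y A) 1 0)
  (Nat.add (cond (Nat.beq z A) 1 0) (cond (Nat.beq u A) 1 0)))

/-- the expected result: `A` occurs once, `c₀` occurs `n₀` times with eigenvalue `w₀` -/
structure Tst where
  A : ℕ
  c₀ : ℕ
  n₀ : ℕ
  w₀ : ℕ

def tst (T : Tst) (x wx y wy z wz u wu : ℕ) : Bool :=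
  cond (Nat.beq (cnt T.A x y z u) 1) (cond (Nat.beq (cnt T.c₀ x y z u) T.n₀)
    (cond (cond (Nat.beq x T.c₀) (Nat.beq wx T.w₀) true) (cond (cond (Nat.beq y T.c₀) (Nat.beq wy T.w₀) true)
      (cond (cond (Nat.beq z T.c₀) (Nat.beq wz T.w₀) true) (cond (Nat.beq u T.c₀) (Nat.beq wu T.w₀) true) false) false)
      false) false) false

structure Res (T : Tst) (x wx y wy z wz u wu : ℕ) : Prop where
  a : cnt T.A x y z u = 1
  c : cnt T.c₀ x y z u = T.n₀
  x : x = T.c₀ → wx = T.w₀
  y : y = T.c₀ → wy = T.w₀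
  z : z = T.c₀ → wz = T.w₀
  u : u = T.c₀ → wu = T.w₀

theorem tst_spec {T : Tst} {x wx y wy z wz u wu : ℕ} (h : tst T x wx y wy z wz u wu = true) :
    Res T x wx y wy z wz u wu := by
  unfold tst at h
  simp only [cond_tf, cond_ft] at h
  obtain ⟨h1, h2, h3, h4, h5, h6⟩ := h
  refine ⟨Nat.eq_of_beq_eq_true h1, Nat.eq_of_beq_eq_true h2, fun h => ?_, fun h => ?_, fun h => ?_, fun h => ?_⟩
  · exact Nat.eq_of_beq_eq_true (h3 (beq_of_eq h))
  · exact Nat.eq_of_beq_eq_true (h4 (beq_of_eq h))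
  · exact Nat.eq_of_beq_eq_true (h5 (beq_of_eq h))
  · exact Nat.eq_of_beq_eq_true (h6 (beq_of_eq h))

theorem cnt_swap (A x y z u : ℕ) : cnt A x y u z = cnt A x y z u := by
  unfold cnt
  simp only [Nat.add_eq]
  omega

theorem cnt_rot (A x y z u : ℕ) : cnt A x z u y = cnt A x y z u := by
  unfold cnt
  simp only [Nat.add_eq]
  omega

theorem cnt_rot4 (A x y z u : ℕ) : cnt A y z u x = cnt A x y z u := by
  unfold cnt
  simp only [Nat.add_eq]
  omega

/-- the known characters -/
structure KD where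
  C : ℕ
  W : ℕ
  C2 : ℕ
  W2 : ℕ

def slv (T : Tst) (kn : KD) (x : ℕ) (lx : List ℕ) (y : ℕ) (ly : List ℕ) (z : ℕ) (lz : List ℕ) (u : ℕ) : Bool :=
  frc (ab u) fun au =>
  allL (fun wx => frc (Nat.add kn.C (Nat.mul x wx)) fun P1 => frc (Nat.add kn.W wx) fun Q1 =>
    allL (fun wy => frc (Nat.add P1 (Nat.mul y wy)) fun P2 => frc (Nat.add Q1 wy) fun Q2 =>
      allL (fun wz => frc (Nat.add P2 (Nat.mul z wz)) fun P => frc (Nat.mul 100000000 (Nat.add Q2 wz)) fun Q =>
        frc (Nat.add (Nat.sub P Q) (Nat.sub Q P)) fun n =>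
        cond (Nat.beq (Nat.mod n au) 0) (frc (Nat.div n au) fun wu =>
          cond (Nat.beq (Nat.add P (Nat.mul u wu)) (Nat.add Q (Nat.mul 100000000 wu)))
            (cond (Nat.beq (Nat.add kn.C2 (Nat.add (Nat.mul x (Nat.mul wx wx)) (Nat.add (Nat.mul y (Nat.mul wy wy))
                (Nat.add (Nat.mul z (Nat.mul wz wz)) (Nat.mul u (Nat.mul wu wu))))))
                (Nat.mul 100000000 (Nat.add kn.W2 (Nat.add (Nat.mul wx wx) (Nat.add (Nat.mul wy wy)
                (Nat.add (Nat.mul wz wz) (Nat.mul wu wu)))))))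
              (tst T x wx y wy z wz u wu) true) true) true) lz) ly) lx

theorem slv_spec {T : Tst} {kn : KD} {x : ℕ} {lx : List ℕ} {y : ℕ} {ly : List ℕ} {z : ℕ} {lz : List ℕ} {u : ℕ}
    (h : slv T kn x lx y ly z lz u = true) {wx wy wz wu : ℕ} (hx : wx ∈ lx) (hy : wy ∈ ly) (hz : wz ∈ lz)
    (hu : u ≠ 100000000)
    (e1 : kn.C + (x * wx + (y * wy + (z * wz + u * wu))) = 100000000 * (kn.W + (wx + (wy + (wz + wu)))))
    (e2 : kn.C2 + (x * (wx * wx) + (y * (wy * wy) + (z * (wz * wz) + u * (wu * wu)))) =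
      100000000 * (kn.W2 + (wx * wx + (wy * wy + (wz * wz + wu * wu))))) : Res T x wx y wy z wz u wu := by
  unfold slv at h
  simp only [Nat.add_eq, Nat.mul_eq, Nat.sub_eq, frc_eq] at h
  have h1 := allL_iff.1 (allL_iff.1 (allL_iff.1 h wx hx) wy hy) wz hz
  simp only [cond_ft] at h1
  have hab : ab u = (u - 100000000) + (100000000 - u) := rfl
  have hpos : 0 < ab u := by rw [hab]; omega
  have key : kn.C + x * wx + y * wy + z * wz - 100000000 * (kn.W + wx + wy + wz) +
      (100000000 * (kn.W + wx + wy + wz) - (kn.C + x * wx + y * wy + z * wz)) = ab u * wu := by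
    generalize hP : kn.C + x * wx + y * wy + z * wz = P
    generalize hQ : 100000000 * (kn.W + wx + wy + wz) = Q
    have e3 : P + u * wu = Q + 100000000 * wu := by
      rw [← hP, ← hQ]
      calc kn.C + x * wx + y * wy + z * wz + u * wu = kn.C + (x * wx + (y * wy + (z * wz + u * wu))) := by ring
        _ = _ := e1
        _ = _ := by ring
    rcases le_total u 100000000 with h3 | h3
    · obtain ⟨k, hk⟩ := Nat.exists_eq_add_of_le h3
      have h4 : ab u = k := by rw [hab]; omega
      have h5 : 100000000 * wu = u * wu + k * wu := by rw [← add_mul, ← hk]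
      rw [h4]
      omega
    · obtain ⟨k, hk⟩ := Nat.exists_eq_add_of_le h3
      have h4 : ab u = k := by rw [hab]; omega
      have h5 : u * wu = 100000000 * wu + k * wu := by rw [← add_mul, ← hk]
      rw [h4]
      omega
  rw [key] at h1
  have h2 := h1 (beq_of_eq (by show ab u * wu % ab u = 0; exact Nat.mul_mod_right _ _))
  have h3 : Nat.div (ab u * wu) (ab u) = wu := by
    show ab u * wu / ab u = wu
    exact Nat.mul_div_cancel_left _ hpos
  rw [h3] at h2
  refine tst_spec (h2 (beq_of_eq ?_) (beq_of_eq e2))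
  calc kn.C + x * wx + y * wy + z * wz + u * wu = kn.C + (x * wx + (y * wy + (z * wz + u * wu))) := by ring
    _ = _ := e1
    _ = _ := by ring

def len (l : List ℕ) : ℕ := List.rec 0 (fun _ _ ih => Nat.succ ih) l

def sel (T : Tst) (kn : KD) (a : ℕ) (la : List ℕ) (b : ℕ) (lb : List ℕ) (c : ℕ) (lc : List ℕ) (r : ℕ) (lr : List ℕ) :
    Bool :=
  frc (len la) fun na => frc (len lb) fun nb => frc (len lc) fun nc => frc (len lr) fun nr =>
    cond (cond (Nat.ble na nr) (cond (Nat.ble nb nr) (Nat.ble nc nr) false) false) (slv T kn a la b lb c lc r)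
      (cond (cond (Nat.ble na nc) (Nat.ble nb nc) false) (slv T kn a la b lb r lr c)
        (cond (Nat.ble na nb) (slv T kn a la c lc r lr b) (slv T kn b lb c lc r lr a)))

theorem sel_spec {T : Tst} {kn : KD} {a : ℕ} {la : List ℕ} {b : ℕ} {lb : List ℕ} {c : ℕ} {lc : List ℕ} {r : ℕ}
    {lr : List ℕ} (h : sel T kn a la b lb c lc r lr = true) {wa wb wc wr : ℕ} (ha : wa ∈ la) (hb : wb ∈ lb)
    (hc : wc ∈ lc) (hr : wr ∈ lr) (na : a ≠ 100000000) (nb : b ≠ 100000000) (nc : c ≠ 100000000) (nr : r ≠ 100000000)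
    (e1 : kn.C + (a * wa + (b * wb + (c * wc + r * wr))) = 100000000 * (kn.W + (wa + (wb + (wc + wr)))))
    (e2 : kn.C2 + (a * (wa * wa) + (b * (wb * wb) + (c * (wc * wc) + r * (wr * wr)))) =
      100000000 * (kn.W2 + (wa * wa + (wb * wb + (wc * wc + wr * wr))))) : Res T a wa b wb c wc r wr := by
  have p1 : kn.C + (a * wa + (b * wb + (r * wr + c * wc))) = 100000000 * (kn.W + (wa + (wb + (wr + wc)))) := by omega
  have p2 : kn.C + (a * wa + (c * wc + (r * wr + b * wb))) = 100000000 * (kn.W + (wa + (wc + (wr + wb)))) := by omega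
  have p3 : kn.C + (b * wb + (c * wc + (r * wr + a * wa))) = 100000000 * (kn.W + (wb + (wc + (wr + wa)))) := by omega
  have q1 : kn.C2 + (a * (wa * wa) + (b * (wb * wb) + (r * (wr * wr) + c * (wc * wc)))) =
      100000000 * (kn.W2 + (wa * wa + (wb * wb + (wr * wr + wc * wc)))) := by omega
  have q2 : kn.C2 + (a * (wa * wa) + (c * (wc * wc) + (r * (wr * wr) + b * (wb * wb)))) =
      100000000 * (kn.W2 + (wa * wa + (wc * wc + (wr * wr + wb * wb)))) := by omega
  have q3 : kn.C2 + (b * (wb * wb) + (c * (wc * wc) + (r * (wr * wr) + a * (wa * wa)))) =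
      100000000 * (kn.W2 + (wb * wb + (wc * wc + (wr * wr + wa * wa)))) := by omega
  unfold sel at h
  simp only [frc_eq] at h
  rcases cond_or h with h | h
  · exact slv_spec h ha hb hc nr e1 e2
  rcases cond_or h with h | h
  · have h3 := slv_spec h ha hb hr nc p1 q1
    exact ⟨by rw [← cnt_swap]; exact h3.a, by rw [← cnt_swap]; exact h3.c, h3.x, h3.y, h3.u, h3.z⟩
  rcases cond_or h with h | h
  · have h3 := slv_spec h ha hc hr nb p2 q2
    exact ⟨by rw [← cnt_rot]; exact h3.a, by rw [← cnt_rot]; exact h3.c, h3.x, h3.u, h3.y, h3.z⟩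
  · have h3 := slv_spec h hb hc hr na p3 q3
    exact ⟨by rw [← cnt_rot4]; exact h3.a, by rw [← cnt_rot4]; exact h3.c, h3.u, h3.x, h3.y, h3.z⟩

/-! ### the whole search -/

def inner (T : Tst) (KN : List KD) (t : List (ℕ × List ℕ)) (a b c r : ℕ) : Bool :=
  withL t a fun la => withL t b fun lb => withL t c fun lc => withL t r fun lr =>
    allL (fun kn => sel T kn a la b lb c lc r lr) KN

/-- admissible degree for the last one -/
def okr (q m : ℕ) (r : ℕ) : Bool := cond (Nat.beq (Nat.mod 64561751654400 (ab r)) 0)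
  (cond (Nat.ble (Nat.mul (ab r) (ab r)) 64561751654400) (Nat.beq (Nat.mod (Nat.div m (Nat.pow 2 (Nat.mod (ab r) q))) 2) 1)
    false) false

def gg (q m : ℕ) (T : Tst) (KN : List KD) (t : List (ℕ × List ℕ)) (a b c r : ℕ) : Bool :=
  cond (okr q m r) (inner T KN t a b c r) true

theorem okr_of {q m r : ℕ} (h1 : ab r ∣ 64561751654400) (h2 : ab r * ab r < 64561751654400)
    (h3 : m / 2 ^ (ab r % q) % 2 = 1) : okr q m r = true := by
  unfold okr
  simp only [cond_tf]
  exact ⟨beq_of_eq (Nat.mod_eq_zero_of_dvd h1), ble_of_le h2.le, beq_of_eq h3⟩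

theorem inner_spec {T : Tst} {KN : List KD} {t : List (ℕ × List ℕ)} {rs : ℕ → ℕ → Bool}
    (ht : ∀ x ∈ t, chkRow rs x.1 x.2 = true) {a b c r : ℤ} (na : a.natAbs < 100000000) (nb : b.natAbs < 100000000)
    (nc : c.natAbs < 100000000) (nr : r.natAbs < 100000000)
    (h : inner T KN t (cd a) (cd b) (cd c) (cd r) = true) {wa wb wc wr : ℤ}
    (ha : Adm a.natAbs wa) (hb : Adm b.natAbs wb) (hc : Adm c.natAbs wc) (hr : Adm r.natAbs wr)
    (ra : rs a.natAbs (wa + 3510).toNat = true) (rb : rs b.natAbs (wb + 3510).toNat = true)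
    (rc : rs c.natAbs (wc + 3510).toNat = true) (rr : rs r.natAbs (wr + 3510).toNat = true) {kn : KD} (hkn : kn ∈ KN)
    (e1 : (kn.C : ℤ) - 100000000 * kn.W + a * (wa + 3510) + b * (wb + 3510) + c * (wc + 3510) + r * (wr + 3510) = 0)
    (e2 : (kn.C2 : ℤ) - 100000000 * kn.W2 + a * (wa + 3510) ^ 2 + b * (wb + 3510) ^ 2 + c * (wc + 3510) ^ 2 +
      r * (wr + 3510) ^ 2 = 0) :
    Res T (cd a) (wa + 3510).toNat (cd b) (wb + 3510).toNat (cd c) (wc + 3510).toNat (cd r) (wr + 3510).toNat := by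
  unfold inner at h
  obtain ⟨la, h1, h⟩ := withL_spec h
  obtain ⟨lb, h2, h⟩ := withL_spec h
  obtain ⟨lc, h3, h⟩ := withL_spec h
  obtain ⟨lr, h4, h⟩ := withL_spec h
  have h5 := allL_iff.1 h kn hkn
  have k1 := ht _ h1
  have k2 := ht _ h2
  have k3 := ht _ h3
  have k4 := ht _ h4
  simp only [ab_cd na] at k1
  simp only [ab_cd nb] at k2
  simp only [ab_cd nc] at k3
  simp only [ab_cd nr] at k4
  have m1 := chkRow_spec k1 ha ra
  have m2 := chkRow_spec k2 hb rb
  have m3 := chkRow_spec k3 hc rc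
  have m4 := chkRow_spec k4 hr rr
  have ba := ha.bd
  have bb := hb.bd
  have bc := hc.bd
  have br := hr.bd
  have oa := ha.one
  have ob := hb.one
  have oc := hc.one
  have or' := hr.one
  have ca := cd_cast na
  have cb := cd_cast nb
  have cc := cd_cast nc
  have cr := cd_cast nr
  have wa' : (((wa + 3510).toNat : ℕ) : ℤ) = wa + 3510 := Int.toNat_of_nonneg (by omega)
  have wb' : (((wb + 3510).toNat : ℕ) : ℤ) = wb + 3510 := Int.toNat_of_nonneg (by omega)
  have wc' : (((wc + 3510).toNat : ℕ) : ℤ) = wc + 3510 := Int.toNat_of_nonneg (by omega)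
  have wr' : (((wr + 3510).toNat : ℕ) : ℤ) = wr + 3510 := Int.toNat_of_nonneg (by omega)
  refine sel_spec h5 m1 m2 m3 m4 (by omega) (by omega) (by omega) (by omega) ?_ ?_
  · zify
    rw [ca, cb, cc, cr, wa', wb', wc', wr']
    linear_combination e1
  · zify
    rw [ca, cb, cc, cr, wa', wb', wc', wr']
    linear_combination e2

/-- **The search.** -/
theorem search {T : Tst} {KN : List KD} {t : List (ℕ × List ℕ)} {rs : ℕ → ℕ → Bool} {q m : ℕ} {D : List ℕ} {K : ℕ}
    (hD : D.Pairwise fun x y => ab x < ab y) (ht : ∀ x ∈ t, chkRow rs x.1 x.2 = true)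
    (h : tri D K (gg q m T KN t) = true) {S : ℤ} (hK : (K : ℤ) = 400000000 - S) {a b c r : ℤ}
    (na : a.natAbs < 100000000) (nb : b.natAbs < 100000000)
    (nc : c.natAbs < 100000000) (nr : r.natAbs < 100000000) {wa wb wc wr : ℤ}
    (ha : Adm a.natAbs wa) (hb : Adm b.natAbs wb) (hc : Adm c.natAbs wc) (hr : Adm r.natAbs wr)
    (ra : rs a.natAbs (wa + 3510).toNat = true) (rb : rs b.natAbs (wb + 3510).toNat = true)
    (rc : rs c.natAbs (wc + 3510).toNat = true) (rr : rs r.natAbs (wr + 3510).toNat = true)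
    (ma : cd a ∈ D) (mb : cd b ∈ D) (mc : cd c ∈ D) (hab : a.natAbs ≤ b.natAbs) (hbc : b.natAbs ≤ c.natAbs)
    (hm : m / 2 ^ (r.natAbs % q) % 2 = 1) {kn : KD} (hkn : kn ∈ KN)
    (e0 : S + a + b + c + r = 0)
    (e1 : (kn.C : ℤ) - 100000000 * kn.W + a * (wa + 3510) + b * (wb + 3510) + c * (wc + 3510) + r * (wr + 3510) = 0)
    (e2 : (kn.C2 : ℤ) - 100000000 * kn.W2 + a * (wa + 3510) ^ 2 + b * (wb + 3510) ^ 2 + c * (wc + 3510) ^ 2 +
      r * (wr + 3510) ^ 2 = 0) :
    Res T (cd a) (wa + 3510).toNat (cd b) (wb + 3510).toNat (cd c) (wc + 3510).toNat (cd r) (wr + 3510).toNat := by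
  have h1 := tri_spec hD h ma mb mc (by rw [ab_cd na, ab_cd nb]; exact hab) (by rw [ab_cd nb, ab_cd nc]; exact hbc)
  have h2 : K - (cd a + (cd b + cd c)) = cd r := by
    have ca := cd_cast na
    have cb := cd_cast nb
    have cc := cd_cast nc
    have cr := cd_cast nr
    omega
  rw [h2] at h1
  unfold gg at h1
  rw [cond_ft] at h1
  exact inner_spec ht na nb nc nr (h1 (okr_of (by rw [ab_cd nr]; exact hr.dvd) (by rw [ab_cd nr]; exact hr.sq)
    (by rw [ab_cd nr]; exact hm))) ha hb hc hr ra rb rc rr hkn e1 e2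

/-! ### the list of the degrees -/

open Cfsg.Agent.SmallSimple.DegreeSearch (divs mem_divs)

/-- the factorization of the order -/
def L : List (ℕ × ℕ) := [(13, 1), (11, 1), (7, 1), (5, 2), (3, 9), (2, 17)]

def bit (m k : ℕ) : Bool := Nat.beq (Nat.mod (Nat.div m (Nat.pow 2 k)) 2) 1

def chkD (p q m : ℕ) (D : List ℕ) : Bool := allL (fun x => cond (Nat.ble 2 x) (cond (Nat.ble (Nat.mul x x) 64561751654400)
  (cond (bit m (Nat.mod x q)) (cond (cond (Nat.beq (Nat.mod x p) 1) (memN (Nat.add 100000000 x) D) true)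
    (cond (Nat.beq (Nat.mod (Nat.add x 1) p) 0) (memN (Nat.sub 100000000 x) D) true) false) true) true) true) (divs L)

theorem chkD_spec {p q m : ℕ} {D : List ℕ} (hp : 1 < p) (h : chkD p q m D = true) {c w : ℤ} (ha : Adm c.natAbs w)
    (hc : c.natAbs < 100000000) (hm : m / 2 ^ (c.natAbs % q) % 2 = 1) (hcp : (p : ℤ) ∣ c - 1) : cd c ∈ D := by
  unfold chkD at h
  have hd : c.natAbs ∈ divs L := by
    refine mem_divs (by intro x hx; simp only [L, List.mem_cons, List.not_mem_nil, or_false] at hx;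
                        rcases hx with rfl | rfl | rfl | rfl | rfl | rfl <;> norm_num) ?_
    have h1 : (L.map fun x => x.1 ^ x.2).prod = 64561751654400 := by decide +kernel
    rw [h1]
    exact ha.dvd
  have h1 := allL_iff.1 h _ hd
  simp only [cond_ft, cond_tf] at h1
  have h2 := h1 (ble_of_le ha.one) (ble_of_le ha.sq.le) (beq_of_eq hm)
  have hcc := cd_cast hc
  obtain ⟨k, hk⟩ := hcp
  rcases le_total 0 c with h0 | h0
  · have h3 := h2.1 (beq_of_eq (by
      show c.natAbs % p = 1
      have h4 : ((c.natAbs : ℕ) : ℤ) = 1 + p * k := by omega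
      have h5 : ((c.natAbs % p : ℕ) : ℤ) = 1 := by
        rw [Int.natCast_mod, h4, Int.add_mul_emod_self_left, Int.emod_eq_of_lt (by norm_num) (by exact_mod_cast hp)]
      exact_mod_cast h5))
    have h6 : Nat.add 100000000 c.natAbs = cd c := by
      show 100000000 + c.natAbs = cd c
      omega
    rw [h6] at h3
    exact memN_spec h3
  · have h3 := h2.2 (beq_of_eq (by
      show (c.natAbs + 1) % p = 0
      have h4 : ((c.natAbs + 1 : ℕ) : ℤ) = p * (-k) := by
        have : ((c.natAbs : ℕ) : ℤ) = -c := by omega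
        push_cast
        rw [← Int.natCast_natAbs, this]
        linear_combination -hk
      have h5 : p ∣ c.natAbs + 1 := by
        have : (p : ℤ) ∣ ((c.natAbs + 1 : ℕ) : ℤ) := ⟨-k, h4⟩
        exact_mod_cast this
      exact Nat.mod_eq_zero_of_dvd h5))
    have h6 : Nat.sub 100000000 c.natAbs = cd c := by
      show 100000000 - c.natAbs = cd c
      omega
    rw [h6] at h3
    exact memN_spec h3

theorem cnt_one {A x y z u : ℕ} (h : cnt A x y z u = 1) :
    (x = A ∧ y ≠ A ∧ z ≠ A ∧ u ≠ A) ∨ (x ≠ A ∧ y = A ∧ z ≠ A ∧ u ≠ A) ∨ (x ≠ A ∧ y ≠ A ∧ z = A ∧ u ≠ A) ∨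
      (x ≠ A ∧ y ≠ A ∧ z ≠ A ∧ u = A) := by
  have hb : ∀ t : ℕ, (cond (Nat.beq t A) 1 0 : ℕ) = if t = A then 1 else 0 := by
    intro t
    by_cases ht : t = A
    · rw [if_pos ht, beq_of_eq ht]; rfl
    · rw [if_neg ht]
      have : Nat.beq t A = false := by
        cases h1 : Nat.beq t A with
        | true => exact absurd (Nat.eq_of_beq_eq_true h1) ht
        | false => rfl
      rw [this]; rfl
  unfold cnt at h
  simp only [Nat.add_eq, hb] at h
  by_cases h1 : x = A <;> by_cases h2 : y = A <;> by_cases h3 : z = A <;> by_cases h4 : u = A <;>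
    simp [h1, h2, h3, h4] at h ⊢

end Cfsg.Agent.H618.LD.Num
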