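import Cfsg.Agent.H618.LD.Tw
import Cfsg.Agent.LThreeFi22.Inst
import Cfsg.Agent.S0145
import Cfsg.Agent.SmallSimple.DegreeData
import Cfsg.Agent.H618.LD.Num

/-!
# S4910, row Fi22 (helper618): the eigenvalues of the class of transpositions, numerical facts
-/

set_option autoImplicit false
set_option linter.unusedSectionVars false

open Cfsg
open scoped ComplexConjugate

namespace Cfsg.Agent.H618.LD.Ev

open Cfsg.Agent.LThreeFi22 Cfsg.Agent.H618.LD.Tw Cfsg.Agent.H618.LD.Num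

universe u

variable {G : Type u} [Group G] {T : Set G}

/-- the facts on one character -/
theorem facts [Finite G] (C : Ctx G T) {χ : G → ℂ} (hχ : IsIrrCharacter G χ) {a : G} (ha : a ∈ T) :
    ∃ (v w : ℤ) (d s r : ℕ), χ 1 = d ∧ χ a = v ∧ om (TF T) χ = w ∧ 0 < d ∧ w * d = 3510 * v ∧
      v.natAbs ≤ s ∧ s ≤ d ∧ v.natAbs ≤ r ∧ r ≤ d ∧ (2 : ℤ) ∣ s - v ∧ (2 : ℤ) ∣ r - v ∧ (2 : ℤ) ∣ d - v ∧
      w * v + 2100 * d = 1386 * s + 4224 * r := by
  classical
  have hcf := Characters.Core.isIrr_isClassFunction hχ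
  obtain ⟨b, hb, hba, hab⟩ := exists_near C ha
  obtain ⟨c, hc, hac⟩ := exists_far C ha
  have hac3 : a * c * a = c * a * c := (C.three a ha c hc).resolve_left hac
  obtain ⟨n₀, n₃, h1, h2, -, d, hd, h3⟩ := commuting hχ (C.sq a ha) (C.sq b hb) hab
  obtain ⟨m₁, m₂, h4, h5, d', hd', h6⟩ := noncommuting hχ (C.sq a ha) (C.sq c hc) hac3
  have hdd : d' = d := by
    have : (d' : ℂ) = d := by rw [← hd', hd]
    exact_mod_cast this
  subst hdd
  obtain ⟨k, h7⟩ := even_sub hχ (C.sq a ha)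
  have vb := val_eq C hcf hb ha
  have vc := val_eq C hcf hc ha
  have haca : a * c * a ∈ T := by
    have := C.conj c hc a
    rwa [C.inv ha] at this
  have vaca := val_eq C hcf haca ha
  have hcaac : χ (c * a) = χ (a * c) := by
    have h8 : c * a = a⁻¹ * (a * c) * a⁻¹⁻¹ := by group
    rw [h8, hcf]
  have hv : χ a = ((n₀ : ℤ) - n₃ : ℤ) := by
    push_cast
    rw [vb] at h1
    linear_combination (1/2 : ℂ) * h1
  have hv' : χ a = ((m₁ : ℤ) - m₂ : ℤ) := by
    push_cast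
    rw [vc, vaca] at h4
    linear_combination (1/3 : ℂ) * h4
  have hvv : (n₀ : ℤ) - n₃ = m₁ - m₂ := by
    have := hv.symm.trans hv'
    exact_mod_cast this
  have hdk : (d' : ℤ) - ((n₀ : ℤ) - n₃) = 2 * k := by
    rw [hd, hv] at h7
    exact_mod_cast h7
  have hd0 : (d' : ℂ) ≠ 0 := by
    rw [← hd]
    obtain ⟨n, ρ, hρ, rfl⟩ := hχ
    exact Characters.Central.char_one_ne_zero ρ hρ
  have hd0' : 0 < d' := Nat.pos_of_ne_zero (by exact_mod_cast hd0)
  -- the eigenvalue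
  have hsum : ∑ s ∈ TF T, χ s = 3510 * χ a := by
    rw [Finset.sum_congr rfl (g := fun _ => χ a) (fun s hs => val_eq C hcf (mem_TF.1 hs) ha), Finset.sum_const,
      card_TF C, nsmul_eq_mul]
    push_cast
    rfl
  have hom : om (TF T) χ = 3510 * ((n₀ : ℤ) - n₃ : ℤ) / (d' : ℂ) := by
    unfold om
    rw [hsum, hv, hd]
  obtain ⟨w, hw⟩ := Characters.GaloisBasic.exists_int_of_isIntegral (isIntegral_om hχ (cl C))
    ⟨3510 * ((n₀ : ℤ) - n₃ : ℤ) / (d' : ℚ), by rw [hom]; push_cast; rfl⟩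
  have hwd : w * d' = 3510 * ((n₀ : ℤ) - n₃) := by
    rw [hw] at hom
    rw [eq_div_iff hd0] at hom
    exact_mod_cast hom
  have hprod := sum_prod C hcf ha hb hc hba hab hac
  rw [sum_mul hχ (cl C), hw, hv, hd] at hprod
  rw [hcaac, hd] at h5
  rw [hd] at h2
  have hfin : (w * ((n₀ : ℤ) - n₃) + 2100 * d' : ℤ) = 1386 * ((n₀ + n₃ : ℕ) : ℤ) + 4224 * ((m₁ + m₂ : ℕ) : ℤ) := by
    have h9 : ((w * ((n₀ : ℤ) - n₃) + 2100 * d' : ℤ) : ℂ) = ((1386 * ((n₀ + n₃ : ℕ) : ℤ) + 4224 * ((m₁ + m₂ : ℕ) : ℤ) : ℤ) : ℂ) := by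
      push_cast
      push_cast at hprod
      linear_combination hprod + 693 * h2 + 1408 * h5
    exact_mod_cast h9
  refine ⟨(n₀ : ℤ) - n₃, w, d', n₀ + n₃, m₁ + m₂, hd, hv, hw, hd0', hwd, by omega, h3, by omega, h6, ?_, ?_, ?_, hfin⟩
  · exact ⟨n₃, by push_cast; ring⟩
  · exact ⟨m₂, by rw [hvv]; push_cast; ring⟩
  · exact ⟨k, hdk⟩

/-- the value at a transposition -/
noncomputable def vv (T : Set G) (χ : G → ℂ) : ℤ := by
  classical
  exact if h : ∃ a ∈ T, ∃ v : ℤ, χ a = v then (h.choose_spec.2).choose else 0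

/-- the eigenvalue -/
noncomputable def ww [Finite G] (T : Set G) (χ : G → ℂ) : ℤ := ⌊(om (TF T) χ).re⌋

theorem ww_cast [Finite G] (C : Ctx G T) {χ : G → ℂ} (hχ : IsIrrCharacter G χ) : om (TF T) χ = (ww T χ : ℂ) := by
  obtain ⟨a, ha, -⟩ := C.mupos
  obtain ⟨v, w, d, s, r, -, -, hw, -⟩ := facts C hχ ha
  unfold ww
  rw [hw]
  simp

theorem charDegree_cast {χ : G → ℂ} [Finite G] (hχ : IsIrrCharacter G χ) : χ 1 = (charDegree χ : ℂ) :=
  Blocks.Basic.irr_one_eq_charDegree hχ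

/-- `χ(t) d w` -/
theorem exists_v [Finite G] (C : Ctx G T) {χ : G → ℂ} (hχ : IsIrrCharacter G χ) : ∃ (v : ℤ) (s r : ℕ),
    (∀ a ∈ T, χ a = v) ∧ 0 < charDegree χ ∧ ww T χ * charDegree χ = 3510 * v ∧
      v.natAbs ≤ s ∧ s ≤ charDegree χ ∧ v.natAbs ≤ r ∧ r ≤ charDegree χ ∧ (2 : ℤ) ∣ s - v ∧ (2 : ℤ) ∣ r - v ∧
      (2 : ℤ) ∣ charDegree χ - v ∧ ww T χ * v + 2100 * charDegree χ = 1386 * s + 4224 * r := by
  obtain ⟨a, ha, -⟩ := C.mupos
  obtain ⟨v, w, d, s, r, h1, h2, h3, h4, h5, h6, h7, h8, h9, h10, h11, h12, h13⟩ := facts C hχ ha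
  have e1 : charDegree χ = d := by
    have := charDegree_cast hχ
    rw [h1] at this
    exact_mod_cast this.symm
  have e2 : ww T χ = w := by
    have := ww_cast C hχ
    rw [h3] at this
    exact_mod_cast this.symm
  rw [e1, e2]
  exact ⟨v, s, r, fun b hb => by rw [val_eq C (Characters.Core.isIrr_isClassFunction hχ) hb ha, h2], h4, h5, h6, h7, h8,
    h9, h10, h11, h12, h13⟩

theorem sum_sq [Finite G] {χ : IrrCharacter G} (hχ : charDegree (χ : G → ℂ) ≠ 1) :
    charDegree (χ : G → ℂ) * charDegree (χ : G → ℂ) < Nat.card G := by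
  classical
  have := Fintype.ofFinite G
  have : Finite (IrrCharacter G) := Characters.Core.finite_irr
  have := Fintype.ofFinite (IrrCharacter G)
  have h3 := SmallSimple.DegreeData.sum_sq (G := G)
  let one : IrrCharacter G := ⟨1, Characters.Core.isIrr_one⟩
  have hd1 : charDegree (one : G → ℂ) = 1 := by
    have := charDegree_cast one.2
    have h4 : (one : G → ℂ) 1 = 1 := rfl
    rw [h4] at this
    exact_mod_cast this.symm
  have hne : χ ≠ one := fun h => hχ (by rw [h, hd1])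
  have h4 : ∑ ψ ∈ ({χ, one} : Finset (IrrCharacter G)), charDegree (ψ : G → ℂ) ^ 2 ≤ Nat.card G := by
    rw [← h3]
    exact Finset.sum_le_sum_of_subset_of_nonneg (Finset.subset_univ _) fun _ _ _ => by positivity
  rw [Finset.sum_pair hne, hd1] at h4
  nlinarith

theorem sq_le [Finite G] {χ : IrrCharacter G} {a : G} {v : ℤ} (h : (χ : G → ℂ) a = v) :
    v * v ≤ Nat.card (Subgroup.centralizer ({a} : Set G)) := by
  classical
  have := Fintype.ofFinite G
  have : Finite (IrrCharacter G) := Characters.Core.finite_irr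
  have := Fintype.ofFinite (IrrCharacter G)
  have h1 := S0145.sum_irr_mul_conj a a
  rw [if_pos (IsConj.refl a)] at h1
  have h2 : ∑ χ : IrrCharacter G, Complex.normSq ((χ : G → ℂ) a) = (Nat.card (Subgroup.centralizer ({a} : Set G)) : ℝ) := by
    have h3 : ∀ χ : IrrCharacter G, (χ : G → ℂ) a * conj ((χ : G → ℂ) a) = (Complex.normSq ((χ : G → ℂ) a) : ℂ) :=
      fun χ => Complex.mul_conj _
    rw [Finset.sum_congr rfl fun χ _ => h3 χ, ← Complex.ofReal_sum] at h1
    exact_mod_cast h1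
  have h3 : Complex.normSq ((χ : G → ℂ) a) ≤ (Nat.card (Subgroup.centralizer ({a} : Set G)) : ℝ) := by
    rw [← h2]
    exact Finset.single_le_sum (f := fun χ : IrrCharacter G => Complex.normSq ((χ : G → ℂ) a))
      (fun _ _ => Complex.normSq_nonneg _) (Finset.mem_univ χ)
  rw [h] at h3
  have h4 : Complex.normSq (v : ℂ) = ((v * v : ℤ) : ℝ) := by
    rw [← Complex.ofReal_intCast, Complex.normSq_ofReal]
    push_cast; ring
  rw [h4] at h3
  exact_mod_cast h3

/-- `|χ(t)| < χ(1)` -/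
theorem natAbs_lt [Finite G] [IsSimpleGroup G] (C : Ctx G T) {χ : IrrCharacter G} (hχ : charDegree (χ : G → ℂ) ≠ 1)
    {a : G} (ha : a ∈ T) {v : ℤ} (h : (χ : G → ℂ) a = v) : v.natAbs < charDegree (χ : G → ℂ) := by
  classical
  obtain ⟨v', s, r, h1, h2, h3, h4, h5, -⟩ := exists_v C χ.2
  have hvv : v' = v := by
    have := (h1 a ha).symm.trans h
    exact_mod_cast this
  subst hvv
  by_contra hcon
  have h6 : v'.natAbs = charDegree (χ : G → ℂ) := by omega
  have h7 : (χ : G → ℂ) a = (χ : G → ℂ) 1 ∨ (χ : G → ℂ) a = - (χ : G → ℂ) 1 := by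
    rw [h, charDegree_cast χ.2, ← h6]
    rcases le_total 0 v' with h0 | h0
    · left
      have h8 : ((v'.natAbs : ℕ) : ℤ) = v' := by omega
      rw [← Int.cast_natCast (R := ℂ), h8]
    · right
      have h8 : ((v'.natAbs : ℕ) : ℤ) = - v' := by omega
      rw [← Int.cast_natCast (R := ℂ), h8, Int.cast_neg, neg_neg]
  obtain ⟨c, hc, hac⟩ := exists_far C ha
  -- the kernel
  obtain ⟨χ, n, ρ, hρ, rfl⟩ := χ
  have hfg : ∀ g : G, ρ (g * a * g⁻¹ * a⁻¹) = 1 := fun g => comm_rep ρ (C.sq a ha) h7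
  have hker : ρ.ker = ⊤ := by
    rcases Subgroup.Normal.eq_bot_or_eq_top (inferInstance : ρ.ker.Normal) with h8 | h8
    · exfalso
      have h9 : c * a * c⁻¹ * a⁻¹ ∈ ρ.ker := hfg c
      rw [h8, Subgroup.mem_bot] at h9
      apply hac
      have h10 : c * a * c⁻¹ = a := mul_inv_eq_one.1 h9
      calc a * c = (c * a * c⁻¹) * c := by rw [h10]
        _ = c * a := by group
    · exact h8
  have hall : ∀ g : G, ρ.character g = ρ.character 1 := by
    intro g
    have h8 : g ∈ ρ.ker := by rw [hker]; trivial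
    have h9 : ρ g = ρ 1 := by rw [map_one]; exact h8
    exact congrArg (LinearMap.trace ℂ (Fin n → ℂ)) h9
  have := Fintype.ofFinite G
  have h8 := Characters.Core.classInner_irr_self (G := G) (χ := ρ.character) ⟨n, ρ, hρ, rfl⟩
  rw [Characters.Core.classInner_def, Finset.sum_congr rfl (g := fun _ => ρ.character 1 * conj (ρ.character 1))
    (fun g _ => by rw [hall g]), Finset.sum_const, Finset.card_univ, nsmul_eq_mul, ← Nat.card_eq_fintype_card,
    ← mul_assoc, inv_mul_cancel₀ (by exact_mod_cast Nat.card_pos.ne'), one_mul,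
    charDegree_cast (χ := ρ.character) ⟨n, ρ, hρ, rfl⟩, Complex.conj_natCast] at h8
  apply hχ
  have h9 : charDegree ρ.character * charDegree ρ.character = 1 := by exact_mod_cast h8
  exact Nat.eq_one_of_mul_eq_one_left h9

/-- **the numerical facts** -/
theorem adm [Finite G] [IsSimpleGroup G] (C : Ctx G T) (χ : IrrCharacter G) (hχ : charDegree (χ : G → ℂ) ≠ 1) :
    Adm (charDegree (χ : G → ℂ)) (ww T (χ : G → ℂ)) := by
  obtain ⟨a, ha, -⟩ := C.mupos
  obtain ⟨v, s, r, h1, h2, h3, h4, h5, h6, h7, h8, h9, h10, h11⟩ := exists_v C χ.2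
  have hlt := natAbs_lt C hχ ha (h1 a ha)
  refine ⟨?_, ?_, by omega, ?_, v, s, r, h3, ?_, h4, h5, h6, h7, h8, h9, h10, h11⟩
  · rw [← C.card]; exact Blocks.Knorr.charDegree_dvd χ.2
  · rw [← C.card]; exact sum_sq hχ
  · have e1 : (ww T (χ : G → ℂ)).natAbs * charDegree (χ : G → ℂ) = 3510 * v.natAbs := by
      have := congrArg Int.natAbs h3
      rw [Int.natAbs_mul, Int.natAbs_mul] at this
      simpa using this
    by_contra hcon
    have h12 : 3510 * charDegree (χ : G → ℂ) ≤ 3510 * v.natAbs := by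
      rw [← e1]; exact Nat.mul_le_mul_right _ (by omega)
    omega
  · have h13 := sq_le (h1 a ha)
    rw [C.card_cent ha] at h13
    exact_mod_cast h13

end Cfsg.Agent.H618.LD.Ev
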