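import Cfsg.Agent.Characters.Central
import Cfsg.Agent.Characters.CentralCharacter
import Cfsg.Agent.Characters.GaloisBasic
import Cfsg.Agent.Blocks.Basic
import Cfsg.Agent.H618.LD.Num
import Cfsg.Agent.LThreeFi22.Ctx

/-!
# S4910, row Fi22 (helper618): the eigenvalues of the class of transpositions
-/

set_option autoImplicit false
set_option linter.unusedSectionVars false

open Cfsg
open scoped ComplexConjugate

namespace Cfsg.Agent.H618.LD.Tw

open Representation

universe u v

section gen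

variable {G : Type u} [Group G] [Finite G]

/-- closed under conjugation -/
def Cl (T : Finset G) : Prop := ∀ s ∈ T, ∀ g : G, g * s * g⁻¹ ∈ T

theorem Cl.iff {T : Finset G} (h : Cl T) (g s : G) : g * s * g⁻¹ ∈ T ↔ s ∈ T := by
  constructor
  · intro h1
    have h2 := h _ h1 g⁻¹
    have h3 : g⁻¹ * (g * s * g⁻¹) * g⁻¹⁻¹ = s := by group
    rwa [h3] at h2
  · intro h1; exact h s h1 g

/-- the eigenvalue -/
noncomputable def om (T : Finset G) (χ : G → ℂ) : ℂ := (∑ s ∈ T, χ s) / χ 1

theorem rep_sum {V : Type v} [AddCommGroup V] [Module ℂ V] [FiniteDimensional ℂ V] (ρ : Representation ℂ G V)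
    (h : ρ.IsIrreducible) {T : Finset G} (hT : Cl T) : ∑ s ∈ T, ρ s = om T ρ.character • (1 : Module.End ℂ V) := by
  classical
  have := Fintype.ofFinite G
  have h1 := Characters.Central.sum_classFun_smul ρ h (θ := fun g => if g ∈ T then (1 : ℂ) else 0) (by
    intro g x
    simp only [hT.iff])
  have h2 : ∑ g, (if g ∈ T then (1 : ℂ) else 0) • ρ g = ∑ s ∈ T, ρ s := by
    rw [← Finset.sum_filter_add_sum_filter_not Finset.univ (fun g : G => g ∈ T)]
    rw [Finset.sum_congr rfl (g := fun g => ρ g) (fun g hg => by rw [if_pos (Finset.mem_filter.1 hg).2, one_smul])]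
    rw [Finset.sum_eq_zero (s := Finset.univ.filter fun g : G => ¬ g ∈ T) (fun g hg => by
      rw [if_neg (Finset.mem_filter.1 hg).2, zero_smul]), add_zero]
    congr 1
    ext g; simp
  have h3 : ∑ g, (if g ∈ T then (1 : ℂ) else 0) * ρ.character g = ∑ s ∈ T, ρ.character s := by
    simp only [ite_mul, one_mul, zero_mul]
    rw [← Finset.sum_filter]
    congr 1
    ext g; simp
  rw [h2, h3] at h1
  exact h1

theorem sum_mul {χ : G → ℂ} (hχ : IsIrrCharacter G χ) {T : Finset G} (hT : Cl T) (h : G) :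
    ∑ s ∈ T, χ (s * h) = om T χ * χ h := by
  obtain ⟨n, ρ, hρ, rfl⟩ := hχ
  have h1 := congrArg (fun f : Module.End ℂ (Fin n → ℂ) => LinearMap.trace ℂ _ (f * ρ h)) (rep_sum ρ hρ hT)
  simp only [Finset.sum_mul, map_sum, smul_mul_assoc, one_mul, map_smul, smul_eq_mul, ← map_mul] at h1
  exact h1

theorem isIntegral_om {χ : G → ℂ} (hχ : IsIrrCharacter G χ) {T : Finset G} (hT : Cl T) : IsIntegral ℤ (om T χ) := by
  classical
  have := Fintype.ofFinite G
  obtain ⟨n, ρ, hρ, rfl⟩ := hχ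
  have := hρ
  have h1 := Characters.CentralCharacter.isIntegral_sum_int ρ (fun g => if g ∈ T then (1 : ℤ) else 0) (by
    intro x g
    simp only [hT.iff])
  have h3 : ∑ g, ((if g ∈ T then (1 : ℤ) else 0 : ℤ) : ℂ) * ρ.character g = ∑ s ∈ T, ρ.character s := by
    have h4 : ∀ g, ((if g ∈ T then (1 : ℤ) else 0 : ℤ) : ℂ) * ρ.character g = if g ∈ T then ρ.character g else 0 := by
      intro g
      split_ifs <;> simp
    rw [Finset.sum_congr rfl fun g _ => h4 g, ← Finset.sum_filter]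
    congr 1
    ext g; simp
  rw [h3] at h1
  unfold om
  rwa [Representation.char_one]

/-- the trace of an idempotent -/
theorem trace_idem {V : Type v} [AddCommGroup V] [Module ℂ V] [FiniteDimensional ℂ V] {E : Module.End ℂ V}
    (h : E * E = E) : ∃ m : ℕ, LinearMap.trace ℂ V E = m ∧ m ≤ Module.finrank ℂ V := by
  have h1 : IsIdempotentElem E := h
  have h2 : LinearMap.IsProj (LinearMap.range E) E := LinearMap.IsIdempotentElem.isProj_range E h1
  exact ⟨_, h2.trace, Submodule.finrank_le _⟩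

/-- two commuting involutions -/
theorem commuting {χ : G → ℂ} (hχ : IsIrrCharacter G χ) {a b : G} (ha : a * a = 1) (hb : b * b = 1)
    (hab : a * b = b * a) : ∃ n₀ n₃ : ℕ, χ a + χ b = 2 * ((n₀ : ℂ) - n₃) ∧ χ (a * b) = 2 * (n₀ + n₃) - χ 1 ∧
      ((n₀ : ℂ) + n₃ = ((n₀ + n₃ : ℕ) : ℂ)) ∧ ∃ d : ℕ, χ 1 = d ∧ n₀ + n₃ ≤ d := by
  obtain ⟨n, ρ, hρ, rfl⟩ := hχ
  set A := ρ a with hA
  set B := ρ b with hB
  have hA2 : A * A = 1 := by rw [hA, ← map_mul, ha, map_one]
  have hB2 : B * B = 1 := by rw [hB, ← map_mul, hb, map_one]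
  have hAB : A * B = B * A := by rw [hA, hB, ← map_mul, hab, map_mul]
  have hABAB : A * B * (A * B) = 1 := by
    calc A * B * (A * B) = A * (B * A) * B := by simp only [mul_assoc]
      _ = A * (A * B) * B := by rw [hAB]
      _ = (A * A) * (B * B) := by simp only [mul_assoc]
      _ = 1 := by rw [hA2, hB2, mul_one]
  have e1 : A * (A * B) = B := by rw [← mul_assoc, hA2, one_mul]
  have e2 : B * (A * B) = A := by rw [hAB, ← mul_assoc, hB2, one_mul]
  have e3 : A * B * A = B := by rw [hAB, mul_assoc, hA2, mul_one]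
  have e4 : A * B * B = A := by rw [mul_assoc, hB2, mul_one]
  have tA : LinearMap.trace ℂ _ A = ρ.character a := rfl
  have tB : LinearMap.trace ℂ _ B = ρ.character b := rfl
  have tAB : LinearMap.trace ℂ _ (A * B) = ρ.character (a * b) := by
    rw [hA, hB, ← map_mul]; rfl
  have t1 : LinearMap.trace ℂ _ (1 : Module.End ℂ (Fin n → ℂ)) = ρ.character 1 := by
    rw [← map_one ρ]; rfl
  obtain ⟨n₀, h1, -⟩ := trace_idem (E := (1/4 : ℂ) • (1 + A + B + A * B)) (by
    simp only [smul_mul_assoc, mul_smul_comm, smul_smul, add_mul, mul_add, one_mul, mul_one, hA2, hB2, hABAB, ← hAB,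
      e1, e2, e3, e4]
    module)
  obtain ⟨n₃, h2, -⟩ := trace_idem (E := (1/4 : ℂ) • (1 - A - B + A * B)) (by
    simp only [smul_mul_assoc, mul_smul_comm, smul_smul, add_mul, mul_add, sub_mul, mul_sub, one_mul, mul_one, hA2, hB2,
      hABAB, ← hAB, e1, e2, e3, e4]
    module)
  obtain ⟨m, h3, h4⟩ := trace_idem (E := (1/2 : ℂ) • (1 + A * B)) (by
    simp only [smul_mul_assoc, mul_smul_comm, smul_smul, add_mul, mul_add, one_mul, mul_one, hABAB]
    module)
  simp only [map_smul, map_add, map_sub, tA, tB, tAB, t1, smul_eq_mul] at h1 h2 h3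
  have h5 : (m : ℂ) = ((n₀ + n₃ : ℕ) : ℂ) := by
    push_cast
    rw [← h1, ← h2, ← h3]; ring
  have h6 : m = n₀ + n₃ := by exact_mod_cast h5
  refine ⟨n₀, n₃, ?_, ?_, by push_cast; rfl, Module.finrank ℂ (Fin n → ℂ), Representation.char_one ρ, h6 ▸ h4⟩
  · rw [← h1, ← h2]; ring
  · rw [← h1, ← h2]; ring

/-- the table of `S₃` -/
theorem table {R : Type v} [Ring R] [Algebra ℂ R] {A B C X Y : R} (hA2 : A * A = 1) (hB2 : B * B = 1)
    (hX : A * B = X) (hY : B * A = Y) (hC : X * A = C) (hC' : Y * B = C) :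
    ((1/6 : ℂ) • (1 + A + B + C + X + Y)) * ((1/6 : ℂ) • (1 + A + B + C + X + Y)) = (1/6 : ℂ) • (1 + A + B + C + X + Y) ∧
    ((1/6 : ℂ) • (1 - A - B - C + X + Y)) * ((1/6 : ℂ) • (1 - A - B - C + X + Y)) = (1/6 : ℂ) • (1 - A - B - C + X + Y) ∧
    ((1/3 : ℂ) • (1 + X + Y)) * ((1/3 : ℂ) • (1 + X + Y)) = (1/3 : ℂ) • (1 + X + Y) := by
  have k1 : A * X = B := by rw [← hX, ← mul_assoc, hA2, one_mul]
  have k2 : A * Y = C := by rw [← hY, ← mul_assoc, hX, hC]
  have k3 : A * C = Y := by rw [← hC, ← mul_assoc, k1, hY]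
  have k5 : B * Y = A := by rw [← hY, ← mul_assoc, hB2, one_mul]
  have k4 : B * X = C := by rw [← hX, ← mul_assoc, hY, hC']
  have k6 : B * C = X := by rw [← hC', ← mul_assoc, k5, hX]
  have k8 : X * B = A := by rw [← hX, mul_assoc, hB2, mul_one]
  have k9 : Y * A = B := by rw [← hY, mul_assoc, hA2, mul_one]
  have k11 : C * A = X := by rw [← hC, mul_assoc, hA2, mul_one]
  have k12 : C * B = Y := by rw [← hC', mul_assoc, hB2, mul_one]
  have k13 : X * X = Y := by
    calc X * X = (X * A) * B := by rw [mul_assoc, hX]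
      _ = Y := by rw [hC, k12]
  have k14 : Y * Y = X := by
    calc Y * Y = (Y * B) * A := by rw [mul_assoc, hY]
      _ = X := by rw [hC', k11]
  have k15 : X * Y = 1 := by
    calc X * Y = (X * B) * A := by rw [mul_assoc, hY]
      _ = 1 := by rw [k8, hA2]
  have k16 : Y * X = 1 := by
    calc Y * X = (Y * A) * B := by rw [mul_assoc, hX]
      _ = 1 := by rw [k9, hB2]
  have k18 : C * X = A := by
    calc C * X = (C * A) * B := by rw [mul_assoc, hX]
      _ = A := by rw [k11, k8]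
  have k19 : C * Y = B := by
    calc C * Y = (C * B) * A := by rw [mul_assoc, hY]
      _ = B := by rw [k12, k9]
  have k17 : C * C = 1 := by
    calc C * C = (C * X) * A := by rw [mul_assoc, hC]
      _ = 1 := by rw [k18, hA2]
  have k20 : X * C = B := by
    calc X * C = (X * X) * A := by rw [mul_assoc, hC]
      _ = B := by rw [k13, k9]
  have k21 : Y * C = A := by
    calc Y * C = (Y * X) * A := by rw [mul_assoc, hC]
      _ = A := by rw [k16, one_mul]
  refine ⟨?_, ?_, ?_⟩
  · simp only [smul_mul_assoc, mul_smul_comm, smul_smul, add_mul, mul_add, one_mul, mul_one, hA2, hB2, hX, hY, hC, hC',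
      k1, k2, k3, k4, k5, k6, k8, k9, k11, k12, k13, k14, k15, k16, k17, k18, k19, k20, k21]
    module
  · simp only [smul_mul_assoc, mul_smul_comm, smul_smul, add_mul, mul_add, sub_mul, mul_sub, one_mul, mul_one, hA2, hB2,
      hX, hY, hC, hC', k1, k2, k3, k4, k5, k6, k8, k9, k11, k12, k13, k14, k15, k16, k17, k18, k19, k20, k21]
    module
  · simp only [smul_mul_assoc, mul_smul_comm, smul_smul, add_mul, mul_add, one_mul, mul_one, k13, k14, k15, k16]
    module

/-- two involutions generating `S₃` -/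
theorem noncommuting {χ : G → ℂ} (hχ : IsIrrCharacter G χ) {a b : G} (ha : a * a = 1) (hb : b * b = 1)
    (hab : a * b * a = b * a * b) : ∃ m₁ m₂ : ℕ, χ a + χ b + χ (a * b * a) = 3 * ((m₁ : ℂ) - m₂) ∧
      χ (a * b) + χ (b * a) = 3 * (m₁ + m₂) - χ 1 ∧ ∃ d : ℕ, χ 1 = d ∧ m₁ + m₂ ≤ d := by
  obtain ⟨n, ρ, hρ, rfl⟩ := hχ
  obtain ⟨t1, t2, t3⟩ := table (A := ρ a) (B := ρ b) (C := ρ (a * b * a)) (X := ρ (a * b)) (Y := ρ (b * a))
    (by rw [← map_mul, ha, map_one]) (by rw [← map_mul, hb, map_one]) (map_mul _ _ _).symm (map_mul _ _ _).symm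
    (map_mul _ _ _).symm (by rw [hab]; exact (map_mul _ _ _).symm)
  obtain ⟨m₁, h1, -⟩ := trace_idem t1
  obtain ⟨m₂, h2, -⟩ := trace_idem t2
  obtain ⟨m, h3, h4⟩ := trace_idem t3
  have tr : ∀ g, LinearMap.trace ℂ _ (ρ g) = ρ.character g := fun _ => rfl
  have tr1 : LinearMap.trace ℂ _ (1 : Module.End ℂ (Fin n → ℂ)) = ρ.character 1 := by
    rw [← map_one ρ]; rfl
  simp only [map_smul, map_add, map_sub, tr, tr1, smul_eq_mul] at h1 h2 h3
  have h5 : (m : ℂ) = ((m₁ + m₂ : ℕ) : ℂ) := by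
    push_cast
    rw [← h1, ← h2, ← h3]; ring
  have h6 : m = m₁ + m₂ := by exact_mod_cast h5
  refine ⟨m₁, m₂, ?_, ?_, Module.finrank ℂ (Fin n → ℂ), Representation.char_one ρ, h6 ▸ h4⟩
  · rw [← h1, ← h2]; ring
  · rw [← h1, ← h2]; ring

theorem even_sub {χ : G → ℂ} (hχ : IsIrrCharacter G χ) {a : G} (ha : a * a = 1) : ∃ m : ℕ, χ 1 - χ a = 2 * m := by
  obtain ⟨n, ρ, hρ, rfl⟩ := hχ
  have hA2 : ρ a * ρ a = 1 := by rw [← map_mul, ha, map_one]
  obtain ⟨m, h1, -⟩ := trace_idem (E := (1/2 : ℂ) • (1 - ρ a)) (by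
    simp only [smul_mul_assoc, mul_smul_comm, smul_smul, sub_mul, mul_sub, one_mul, mul_one, hA2]
    module)
  have tr : ∀ g, LinearMap.trace ℂ _ (ρ g) = ρ.character g := fun _ => rfl
  have tr1 : LinearMap.trace ℂ _ (1 : Module.End ℂ (Fin n → ℂ)) = ρ.character 1 := by
    rw [← map_one ρ]; rfl
  simp only [map_smul, map_sub, tr, tr1, smul_eq_mul] at h1
  exact ⟨m, by rw [← h1]; ring⟩

/-- an involution acting as a scalar commutes with everything -/
theorem comm_rep {n : ℕ} (ρ : Representation ℂ G (Fin n → ℂ)) {a : G} (ha : a * a = 1)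
    (h : ρ.character a = ρ.character 1 ∨ ρ.character a = - ρ.character 1) {g : G} : ρ (g * a * g⁻¹ * a⁻¹) = 1 := by
  have hA2 : ρ a * ρ a = 1 := by rw [← map_mul, ha, map_one]
  have tr : ∀ g, LinearMap.trace ℂ _ (ρ g) = ρ.character g := fun _ => rfl
  have tr1 : LinearMap.trace ℂ _ (1 : Module.End ℂ (Fin n → ℂ)) = ρ.character 1 := by
    rw [← map_one ρ]; rfl
  have key : ρ a = 1 ∨ ρ a = (-1 : ℂ) • (1 : Module.End ℂ (Fin n → ℂ)) := by
    rcases h with h | h
    · left
      have hid : IsIdempotentElem ((1/2 : ℂ) • (1 - ρ a)) := by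
        show ((1/2 : ℂ) • (1 - ρ a)) * ((1/2 : ℂ) • (1 - ρ a)) = _
        simp only [smul_mul_assoc, mul_smul_comm, smul_smul, sub_mul, mul_sub, one_mul, mul_one, hA2]
        module
      have h1 := LinearMap.IsIdempotentElem.eq_zero_of_trace_eq_zero hid (by
        simp only [map_smul, map_sub, tr, tr1, smul_eq_mul]
        rw [h, sub_self, mul_zero])
      have h2 : (1 : Module.End ℂ (Fin n → ℂ)) - ρ a = 0 := by
        have h3 := congrArg (fun f => (2 : ℂ) • f) h1
        simp only [smul_smul, smul_zero] at h3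
        norm_num at h3
        exact h3
      exact (sub_eq_zero.1 h2).symm
    · right
      have hid : IsIdempotentElem ((1/2 : ℂ) • (1 + ρ a)) := by
        show ((1/2 : ℂ) • (1 + ρ a)) * ((1/2 : ℂ) • (1 + ρ a)) = _
        simp only [smul_mul_assoc, mul_smul_comm, smul_smul, add_mul, mul_add, one_mul, mul_one, hA2]
        module
      have h1 := LinearMap.IsIdempotentElem.eq_zero_of_trace_eq_zero hid (by
        simp only [map_smul, map_add, tr, tr1, smul_eq_mul]
        rw [h, add_neg_cancel, mul_zero])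
      have h2 : (1 : Module.End ℂ (Fin n → ℂ)) + ρ a = 0 := by
        have h3 := congrArg (fun f => (2 : ℂ) • f) h1
        simp only [smul_smul, smul_zero] at h3
        norm_num at h3
        exact h3
      calc ρ a = (1 + ρ a) + (-1 : ℂ) • (1 : Module.End ℂ (Fin n → ℂ)) := by module
        _ = _ := by rw [h2, zero_add]
  have hainv : a⁻¹ = a := inv_eq_of_mul_eq_one_right ha
  rw [hainv, map_mul, map_mul, map_mul]
  rcases key with h4 | h4
  · rw [h4, mul_one, mul_one, ← map_mul, mul_inv_cancel, map_one]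
  · rw [h4]
    simp only [mul_smul_comm, smul_mul_assoc, smul_smul, mul_one, ← map_mul, mul_inv_cancel, map_one]
    norm_num

end gen

/-! ### the class of transpositions -/

section ctx

open Cfsg.Agent.LThreeFi22

variable {G : Type u} [Group G] {T : Set G}

/-- the class as a finset -/
noncomputable def TF [Finite G] (T : Set G) : Finset G := T.toFinite.toFinset

theorem mem_TF [Finite G] {s : G} : s ∈ TF T ↔ s ∈ T := Set.Finite.mem_toFinset _

theorem cl [Finite G] (C : Ctx G T) : Cl (TF T) := fun s hs g => mem_TF.2 (C.conj s (mem_TF.1 hs) g)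

theorem card_TF [Finite G] (C : Ctx G T) : (TF T).card = 3510 := by
  rw [← C.ncard, Set.ncard_eq_toFinset_card T T.toFinite]
  rfl

theorem exists_far [Finite G] (C : Ctx G T) {a : G} (ha : a ∈ T) : ∃ b ∈ T, a * b ≠ b * a := by
  have h := C.far ha
  have h1 : {e | e ∈ T ∧ a * e ≠ e * a}.Nonempty := by
    rw [← Set.ncard_pos, h]; norm_num
  exact h1

theorem exists_near [Finite G] (C : Ctx G T) {a : G} (ha : a ∈ T) : ∃ b ∈ T, b ≠ a ∧ a * b = b * a := by
  have h := C.link a ha
  have h1 : {c | c ∈ T ∧ c ≠ a ∧ a * c = c * a}.Nonempty := by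
    rw [← Set.ncard_pos, h]; norm_num
  exact h1

theorem isConj [Finite G] (C : Ctx G T) {a b : G} (ha : a ∈ T) (hb : b ∈ T) : ∃ g : G, g * a * g⁻¹ = b := by
  obtain ⟨a', ha', h1⟩ := exists_far C ha
  obtain ⟨b', hb', h2⟩ := exists_far C hb
  obtain ⟨g, h3, -⟩ := C.transN a ha a' ha' b hb b' hb' h1 h2
  exact ⟨g, h3⟩

theorem val_eq [Finite G] (C : Ctx G T) {χ : G → ℂ} (hχ : IsClassFunction G χ) {a b : G} (ha : a ∈ T) (hb : b ∈ T) :
    χ a = χ b := by
  obtain ⟨g, rfl⟩ := isConj C ha hb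
  rw [hχ]

/-- the sum over the products with a transposition -/
theorem sum_prod [Finite G] (C : Ctx G T) {χ : G → ℂ} (hχ : IsClassFunction G χ) {a b c : G} (ha : a ∈ T) (hb : b ∈ T)
    (hc : c ∈ T) (hba : b ≠ a) (hab : a * b = b * a) (hac : a * c ≠ c * a) :
    ∑ s ∈ TF T, χ (s * a) = χ 1 + 693 * χ (a * b) + 2816 * χ (a * c) := by
  classical
  have e0 : TF T = {a} ∪ ((TF T).filter fun s => s ≠ a ∧ a * s = s * a) ∪ ((TF T).filter fun s => a * s ≠ s * a) := by
    ext s
    simp only [Finset.mem_union, Finset.mem_singleton, Finset.mem_filter]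
    constructor
    · intro hs
      by_cases h1 : a * s = s * a
      · by_cases h2 : s = a
        · exact Or.inl (Or.inl h2)
        · exact Or.inl (Or.inr ⟨hs, h2, h1⟩)
      · exact Or.inr ⟨hs, h1⟩
    · rintro ((rfl | h) | h)
      · exact mem_TF.2 ha
      · exact h.1
      · exact h.1
  have c1 : ((TF T).filter fun s => s ≠ a ∧ a * s = s * a).card = 693 := by
    rw [← C.link a ha, ← Set.ncard_coe_finset]
    congr 1
    ext s
    simp [mem_TF]
  have c2 : ((TF T).filter fun s => a * s ≠ s * a).card = 2816 := by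
    rw [← C.far ha, ← Set.ncard_coe_finset]
    congr 1
    ext s
    simp [mem_TF]
  have d1 : Disjoint ({a} : Finset G) ((TF T).filter fun s => s ≠ a ∧ a * s = s * a) := by
    rw [Finset.disjoint_singleton_left, Finset.mem_filter]
    exact fun h => h.2.1 rfl
  have d2 : Disjoint ({a} ∪ ((TF T).filter fun s => s ≠ a ∧ a * s = s * a)) ((TF T).filter fun s => a * s ≠ s * a) := by
    rw [Finset.disjoint_left]
    intro s hs hs'
    rw [Finset.mem_filter] at hs'
    rw [Finset.mem_union, Finset.mem_singleton, Finset.mem_filter] at hs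
    rcases hs with rfl | hs
    · exact hs'.2 rfl
    · exact hs'.2 hs.2.2
  have k1 : ∀ s ∈ (TF T).filter (fun s => s ≠ a ∧ a * s = s * a), χ (s * a) = χ (a * b) := by
    intro s hs
    rw [Finset.mem_filter, mem_TF] at hs
    obtain ⟨g, h1, h2⟩ := C.transC a ha s hs.1 a ha b hb hs.2.1.symm hba.symm hs.2.2 hab
    have h3 : a * b = g * (a * s) * g⁻¹ := by
      calc a * b = (g * a * g⁻¹) * (g * s * g⁻¹) := by rw [h1, h2]
        _ = _ := by group
    rw [h3, hχ, hs.2.2]
  have k2 : ∀ s ∈ (TF T).filter (fun s => a * s ≠ s * a), χ (s * a) = χ (a * c) := by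
    intro s hs
    rw [Finset.mem_filter, mem_TF] at hs
    obtain ⟨g, h1, h2⟩ := C.transN a ha s hs.1 a ha c hc hs.2 hac
    have h3 : a * c = g * (a * s) * g⁻¹ := by
      calc a * c = (g * a * g⁻¹) * (g * s * g⁻¹) := by rw [h1, h2]
        _ = _ := by group
    have h4 : s * a = a⁻¹ * (a * s) * a⁻¹⁻¹ := by group
    rw [h3, hχ, h4, hχ]
  rw [e0, Finset.sum_union d2, Finset.sum_union d1, Finset.sum_singleton, Finset.sum_congr rfl k1,
    Finset.sum_congr rfl k2, Finset.sum_const, Finset.sum_const, c1, c2, C.sq a ha]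
  simp only [nsmul_eq_mul]
  push_cast
  ring

end ctx

end Cfsg.Agent.H618.LD.Tw
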