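import Cfsg.Agent.H618.LD.Num

/-!
# S4910, row Fi22 (helper618): the search in pieces
-/

set_option autoImplicit false

namespace Cfsg.Agent.H618.LD.Num

/-- the first `n` entries -/
def part (f : ℕ → List ℕ → Bool) (n : ℕ) : List ℕ → Bool :=
  Nat.rec (fun _ => true) (fun _ ih l => List.rec true (fun a l _ => cond (f a (a :: l)) (ih l) false) l) n

theorem part_succ (f : ℕ → List ℕ → Bool) (n : ℕ) (a : ℕ) (l : List ℕ) :
    part f (n + 1) (a :: l) = cond (f a (a :: l)) (part f n l) false := rfl

theorem tails_of_part {f : ℕ → List ℕ → Bool} {n : ℕ} {l : List ℕ} (h : part f n l = true)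
    (h' : tails f (l.drop n) = true) : tails f l = true := by
  induction n generalizing l with
  | zero => simpa using h'
  | succ n ih =>
    cases l with
    | nil => rfl
    | cons a l =>
      rw [part_succ, cond_tf] at h
      show cond (f a (a :: l)) (tails f l) false = true
      rw [cond_tf]
      exact ⟨h.1, ih h.2 (by simpa using h')⟩

theorem tails_of_part' {f : ℕ → List ℕ → Bool} {n m : ℕ} {l : List ℕ} (h : part f n (l.drop m) = true)
    (h' : tails f (l.drop (m + n)) = true) : tails f (l.drop m) = true :=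
  tails_of_part h (by rw [List.drop_drop]; exact h')

theorem tails_nil (f : ℕ → List ℕ → Bool) {l : List ℕ} {n : ℕ} (h : l.length ≤ n) : tails f (l.drop n) = true := by
  rw [List.drop_eq_nil_of_le h]; rfl

/-- the loop for `a` -/
def fa (K : ℕ) (g : ℕ → ℕ → ℕ → ℕ → Bool) : ℕ → List ℕ → Bool :=
  fun a l => tails (fun b l' => allL (fun c => g a b c (Nat.sub K (Nat.add a (Nat.add b c)))) l') l

theorem tri_eq (D : List ℕ) (K : ℕ) (g : ℕ → ℕ → ℕ → ℕ → Bool) : tri D K g = tails (fa K g) (D.drop 0) := rfl

end Cfsg.Agent.H618.LD.Num
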