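import Cfsg.Agent.SmallSimple.TheoremCCor
import Cfsg.Agent.SmallSimple.DegreeData
import Cfsg.Agent.CharactersDeep.ModCongr

/-!
# S4910, row Fi22 (helper618): the characters over the trivial character, prime order
-/

set_option autoImplicit false
set_option linter.unusedSectionVars false

open Cfsg
open scoped ComplexConjugate

namespace Cfsg.Agent.H618.LD.Blk

open Subgroup
open Cfsg.Agent.Characters.Core
open Cfsg.Agent.SmallSimple.PrimeDual Cfsg.Agent.SmallSimple.ThetaSetup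
open Cfsg.Agent.SmallSimple.ThetaOrtho Cfsg.Agent.SmallSimple.ThetaGroup
open Cfsg.Agent.SmallSimple.TheoremC Cfsg.Agent.SmallSimple.TheoremCCor

universe u

variable {G : Type u} [Group G]

/-- the trivial character -/
def one (G : Type u) [Group G] : IrrCharacter G := ⟨1, isIrr_one⟩

/-- the degree as an integer -/
noncomputable def dg (χ : IrrCharacter G) : ℤ := (charDegree (χ : G → ℂ) : ℤ)

theorem dg_cast [Finite G] (χ : IrrCharacter G) : (χ : G → ℂ) 1 = (dg χ : ℂ) := by
  unfold dg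
  rw [Blocks.Basic.irr_one_eq_charDegree χ.2]
  push_cast
  rfl

variable [Finite G] {p : ℕ} [hp : Fact p.Prime]

/-- the principal block -/
structure PB (P : Sylow p G) (K : Subgroup G) (e t : ℕ) (NE X : Finset (IrrCharacter G)) (ε : IrrCharacter G → ℤ)
    (d : ℤ) : Prop where
  mem : ∀ χ, χ ∈ Over P (1 : K → ℂ) ↔ χ ∈ NE ∨ χ ∈ X
  disj : Disjoint NE X
  cNE : NE.card = e
  cX : X.card = t
  one : one G ∈ NE
  eone : ε (Blk.one G) = 1
  sg : ∀ χ ∈ NE, ε χ = 1 ∨ ε χ = -1
  sd : d = 1 ∨ d = -1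
  val : ∀ χ ∈ NE, ∀ x : P, x ≠ 1 → ∀ y : K, (χ : G → ℂ) (x * y) = ε χ
  rel : ∀ Θ ∈ X, ∀ g : G, ¬ p ∣ orderOf g → ∑ χ ∈ NE, (ε χ : ℂ) * (χ : G → ℂ) g = d * (Θ : G → ℂ) g
  cong : ∀ χ ∈ NE, (p : ℤ) ∣ ε χ * dg χ - 1
  congX : ∀ Θ ∈ X, (p : ℤ) ∣ d * dg Θ - e

/-- `χ(g) ≡ χ(x⁻¹ g)` for the `p`-part `x`, integral values -/
theorem int_cong (χ : IrrCharacter G) {g x y : G} (hxy : x * y = g) (hc : Commute x y) {k : ℕ}
    (hx : orderOf x = p ^ k) (hy : ¬ p ∣ orderOf y) {m n : ℤ} (h1 : (χ : G → ℂ) g = m) (h2 : (χ : G → ℂ) y = n) :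
    (p : ℤ) ∣ m - n := by
  obtain ⟨M, hM⟩ := Blocks.ExistsModular.exists_isPModular hp.out
  have h3 := Cfsg.Agent.CharactersDeep.ModCongr.memLocalIdeal_character_sub hM χ.2 g x ⟨y, hxy, hc, ⟨k, hx⟩, hy⟩
  have h4 : x⁻¹ * g = y := by rw [← hxy]; group
  rw [h4, h1, h2] at h3
  have h5 : (m : ℂ) - (n : ℂ) = ((m - n : ℤ) : ℂ) := by push_cast; ring
  rw [h5] at h3
  exact (Blocks.Local.memLocalIdeal_intCast_iff hM _).1 h3

theorem not_dvd_one : ¬ p ∣ orderOf (1 : G) := by
  rw [orderOf_one]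
  exact fun h => hp.out.one_lt.ne' (Nat.dvd_one.1 h)

theorem stable {P : Sylow p G} {K : Subgroup G} (hK : IsComp p (P : Subgroup G) K) :
    ∀ n ∈ normalizer ((P : Subgroup G) : Set G), tw (1 : K → ℂ) n = 1 := by
  intro n hn
  funext y
  rw [tw_apply hK _ hn]
  rfl

theorem exists_pb {P : Sylow p G} (hP : Nat.card P = p) {K : Subgroup G} (hK : IsComp p (P : Subgroup G) K) {e t : ℕ}
    (he : (centralizer ((P : Subgroup G) : Set G)).relIndex (normalizer ((P : Subgroup G) : Set G)) = e)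
    (ht : e * t = p - 1) (hlt : e < p - 1) :
    ∃ NE X ε d, PB P K e t NE X ε d := by
  classical
  have hst := stable hK
  have hse := card_stabAct_of_stable hK hP isIrr_one hst
  obtain ⟨NE, X, ε, d, S, h1, h2, h3, h4, h5, h6, h7, h8, -, -, h9⟩ :=
    theoremC hK hP isIrr_one (hse.trans he) ht
  have hone : (Blk.one G) ∈ Over P (1 : K → ℂ) ∧ ∀ x : P, part (1 : K → ℂ) (Blk.one G : G → ℂ) x = 1 := by
    have hpart : ∀ x : P, part (1 : K → ℂ) (Blk.one G : G → ℂ) x = 1 := by
      intro x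
      have := Fintype.ofFinite K
      rw [part_eq]
      have h10 : ∀ y : K, (Blk.one G : G → ℂ) (x * y) * conj ((1 : K → ℂ) y) = 1 := by
        intro y
        show (1 : ℂ) * conj (1 : ℂ) = 1
        rw [map_one, mul_one]
      rw [Finset.sum_congr rfl fun y _ => h10 y, Finset.sum_const, Finset.card_univ, nsmul_eq_mul, mul_one,
        ← Nat.card_eq_fintype_card, inv_mul_cancel₀ (by exact_mod_cast Nat.card_pos.ne')]
    refine ⟨?_, hpart⟩
    have : Nontrivial P := by
      rw [← Finite.one_lt_card_iff_nontrivial, hP]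
      exact hp.out.one_lt
    obtain ⟨x, hx⟩ := exists_ne (1 : P)
    exact mem_Over.2 ⟨x, hx, by rw [hpart x]; exact one_ne_zero⟩
  have hval : ∀ χ ∈ NE, ∀ x : P, x ≠ 1 → ∀ y : K, (χ : G → ℂ) (x * y) = ε χ := by
    intro χ hχ x hx y
    rw [apply_of_stable hK hP isIrr_one hst ((h1 χ).2 (Or.inl hχ)) hx, h7 χ hχ x hx]
    show (ε χ : ℂ) * 1 = _
    rw [mul_one]
  have hcong : ∀ χ ∈ NE, (p : ℤ) ∣ ε χ * dg χ - 1 := by
    intro χ hχ
    have h10 := SmallSimple.DegreeData.nonexc_modEq (P := (P : Subgroup G)) (p := p) hP (h5 χ hχ) (χ := χ) (by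
      intro x hx hx1
      have h11 := hval χ hχ ⟨x, hx⟩ (fun h => hx1 (congrArg Subtype.val h)) 1
      rw [Subgroup.coe_one, mul_one] at h11
      exact h11)
    exact (Int.modEq_iff_dvd.1 h10.symm)
  have hone' : Blk.one G ∈ NE := by
    rcases (h1 _).1 hone.1 with h10 | h10
    · exact h10
    · exfalso
      obtain ⟨k1, k2, -, k3⟩ := h8 _ h10
      have hfp : Fintype (P : Subgroup G) := Fintype.ofFinite _
      have q1 : ∀ x : (P : Subgroup G), part (1 : K → ℂ) (Blk.one G : G → ℂ) x = 1 := fun x => hone.2 x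
      have q2 : ∀ x : (P : Subgroup G), x ≠ 1 → part (1 : K → ℂ) (Blk.one G : G → ℂ) x =
        (d : ℂ) * ∑ l ∈ S (Blk.one G), ((l x : ℂˣ) : ℂ) := fun x hx => k3 x hx
      have hP' : Fintype.card (P : Subgroup G) = p := Nat.card_eq_fintype_card.symm.trans hP
      have h11 : ∑ x ∈ Finset.univ.erase (1 : (P : Subgroup G)), part (1 : K → ℂ) (Blk.one G : G → ℂ) x = ((p - 1 : ℕ) : ℂ) := by
        rw [Finset.sum_congr rfl fun x _ => q1 x, Finset.sum_const, Finset.card_erase_of_mem (Finset.mem_univ _),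
          Finset.card_univ, hP', nsmul_eq_mul, mul_one]
      have h12 : ∑ x ∈ Finset.univ.erase (1 : (P : Subgroup G)), part (1 : K → ℂ) (Blk.one G : G → ℂ) x = -(d * e : ℤ) := by
        rw [Finset.sum_congr rfl fun x hx => q2 x (Finset.mem_erase.1 hx).1, ← Finset.mul_sum, Finset.sum_comm]
        have h13 : ∀ l ∈ S (Blk.one G), ∑ x ∈ Finset.univ.erase (1 : (P : Subgroup G)), ((l x : ℂˣ) : ℂ) = -1 := by
          intro l hl
          have h14 := sum_hom_eq_zero (l := l) (fun h0 => k2 (h0 ▸ hl))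
          have h16 := Finset.add_sum_erase Finset.univ (fun x : (P : Subgroup G) => ((l x : ℂˣ) : ℂ))
            (Finset.mem_univ (1 : (P : Subgroup G)))
          have h17 : ∑ x : (P : Subgroup G), ((l x : ℂˣ) : ℂ) = 0 := by
            convert h14
          rw [h17] at h16
          have h18 : ((l 1 : ℂˣ) : ℂ) = 1 := by rw [map_one, Units.val_one]
          simp only [h18] at h16
          linear_combination h16
        rw [Finset.sum_congr rfl h13, Finset.sum_const, k1, nsmul_eq_mul]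
        push_cast
        ring
      rw [h11] at h12
      have h15 : ((p - 1 : ℕ) : ℤ) = -(d * e) := by exact_mod_cast h12
      rcases h6 with h6 | h6 <;> rw [h6] at h15 <;> omega
  have heone : ε (Blk.one G) = 1 := by
    have : Nontrivial P := by
      rw [← Finite.one_lt_card_iff_nontrivial, hP]
      exact hp.out.one_lt
    obtain ⟨x, hx⟩ := exists_ne (1 : P)
    have h10 := h7 _ hone' x hx
    rw [hone.2 x] at h10
    exact_mod_cast h10.symm
  refine ⟨NE, X, ε, d, h1, h2, h3, h4, hone', heone, h5, h6, hval, h9, hcong, ?_⟩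
  intro Θ hΘ
  have h10 := h9 Θ hΘ 1 not_dvd_one
  rw [dg_cast Θ, Finset.sum_congr rfl (g := fun χ => ((ε χ * dg χ : ℤ) : ℂ)) (fun χ _ => by
    rw [dg_cast χ]; push_cast; rfl), ← Int.cast_sum] at h10
  have h11 : ∑ χ ∈ NE, ε χ * dg χ = d * dg Θ := by exact_mod_cast h10
  have h12 : (e : ℤ) = ∑ χ ∈ NE, (1 : ℤ) := by rw [Finset.sum_const, h3]; simp
  rw [← h11, h12, ← Finset.sum_sub_distrib]
  exact Finset.dvd_sum fun χ hχ => hcong χ hχ

/-- the inertial index -/
theorem relIndex_eq {P : Sylow p G} (hP : Nat.card P = p) {K : Subgroup G} (hK : IsComp p (P : Subgroup G) K) {x : G}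
    (hx : x ∈ P) (hx1 : x ≠ 1) {N c e : ℕ} (hN : Nat.card G = N) (hc : Nat.card (centralizer ({x} : Set G)) = c)
    (he : N / c % p = e) (he0 : e ≠ 0) :
    (centralizer ((P : Subgroup G) : Set G)).relIndex (normalizer ((P : Subgroup G) : Set G)) = e := by
  set C := centralizer ((P : Subgroup G) : Set G) with hC
  set Nm := normalizer ((P : Subgroup G) : Set G) with hNm
  have hcC : Nat.card C = c := by
    rw [← hc, Blocks.CyclicOrtho.centralizer_eq P hP hx hx1]
  have h1 : C.relIndex Nm * Nm.index = C.index := Subgroup.relIndex_mul_index (centralizer_le_normalizer _)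
  have h2 : Nat.card (Sylow p G) = Nm.index := P.card_eq_index_normalizer
  have h3 : Nat.card (Sylow p G) ≡ 1 [MOD p] := card_sylow_modEq_one p G
  rw [h2] at h3
  have hidx : C.index = N / c := by
    have h4 := C.card_mul_index
    rw [hcC, hN] at h4
    rw [← h4, Nat.mul_div_cancel_left]
    rw [← hcC]; exact Nat.card_pos
  have h5 : C.relIndex Nm ≡ e [MOD p] := by
    have h6 : C.relIndex Nm * Nm.index ≡ C.relIndex Nm * 1 [MOD p] := h3.mul_left _
    rw [h1, hidx, mul_one] at h6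
    have h7 : N / c ≡ e [MOD p] := by
      rw [← he]; exact (Nat.mod_modEq _ _).symm
    exact h6.symm.trans h7
  have hst := card_stabAct_of_stable hK hP isIrr_one (stable hK)
  have h8 : C.relIndex Nm ∣ p - 1 := by
    rw [← hst]
    have h9 := Subgroup.card_subgroup_dvd_card (stabAct hK (1 : K → ℂ))
    have h10 : IsCyclic P := isCyclic_of_prime_card hP
    rwa [Nat.card_congr (IsCyclic.mulAutMulEquiv P).toEquiv, hP, Nat.card_eq_fintype_card (α := (ZMod p)ˣ),
      ZMod.card_units_eq_totient, Nat.totient_prime hp.out] at h9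
  have h11 : C.relIndex Nm ≤ p - 1 := Nat.le_of_dvd (Nat.sub_pos_of_lt hp.out.one_lt) h8
  have h12 : e < p := by rw [← he]; exact Nat.mod_lt _ hp.out.pos
  have h13 := hp.out.one_lt
  exact Nat.ModEq.eq_of_lt_of_lt h5 (by omega) h12

end Cfsg.Agent.H618.LD.Blk
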