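import Cfsg.Agent.H618.LD.Use
import Cfsg.Agent.H618.LD.Prin2
import Cfsg.Agent.H618.LD.S11
import Cfsg.Agent.H618.LD.S13

/-!
# S4910, row Fi22 (helper618): the principal blocks, use of the search
-/

set_option autoImplicit false
set_option linter.unusedSectionVars false

open Cfsg

namespace Cfsg.Agent.H618.LD.Find

open Cfsg.Agent.LThreeFi22 Cfsg.Agent.H618.LD.Tw Cfsg.Agent.H618.LD.Ev Cfsg.Agent.H618.LD.Blk Cfsg.Agent.H618.LD.Num
  Cfsg.Agent.H618.LD.Mom Cfsg.Agent.H618.LD.Prin Cfsg.Agent.H618.LD.Use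
open Cfsg.Agent.KFacts.FiTT (TK)

universe u

variable {G : Type u} [Group G] [Finite G] {T : Set G}

open scoped Classical in
/-- the coefficient -/
noncomputable def co (X : Finset (IrrCharacter G)) (ε : IrrCharacter G → ℤ) (d : ℤ) (χ : IrrCharacter G) : ℤ :=
  if χ ∈ X then -d * dg χ else ε χ * dg χ

section p

variable {p : ℕ} [hp : Fact p.Prime] {P : Sylow p G} {K : Subgroup G} {e t : ℕ} {NE X : Finset (IrrCharacter G)}
  {ε : IrrCharacter G → ℤ} {d : ℤ}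

theorem co_X {χ : IrrCharacter G} (h : χ ∈ X) : co X ε d χ = -d * dg χ := if_pos h

theorem co_NE (B : PB P K e t NE X ε d) {χ : IrrCharacter G} (h : χ ∈ NE) : co X ε d χ = ε χ * dg χ :=
  if_neg fun h' => Finset.disjoint_left.1 B.disj h h'

theorem natAbs_co (B : PB P K e t NE X ε d) {χ : IrrCharacter G} (h : χ ∈ NE ∨ χ ∈ X) :
    (co X ε d χ).natAbs = charDegree (χ : G → ℂ) := by
  rcases h with h | h
  · rw [co_NE B h]
    unfold dg
    rcases B.sg χ h with h1 | h1 <;> rw [h1] <;> omega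
  · rw [co_X h]
    unfold dg
    rcases B.sd with h1 | h1 <;> rw [h1] <;> omega

theorem mom (C : Ctx G T) (h5 : 5 ≤ p) (B : PB P K e t NE X ε d) {Θ : IrrCharacter G} (hΘ : Θ ∈ X) :
    (∑ χ ∈ NE, co X ε d χ + co X ε d Θ = 0) ∧
    (∑ χ ∈ NE, co X ε d χ * (ww T (χ : G → ℂ) + 3510) + co X ε d Θ * (ww T (Θ : G → ℂ) + 3510) = 0) ∧
    (∑ χ ∈ NE, co X ε d χ * (ww T (χ : G → ℂ) + 3510) ^ 2 + co X ε d Θ * (ww T (Θ : G → ℂ) + 3510) ^ 2 = 0) := by
  have h0 := moment0 B hΘ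
  have h1 := moment1 C h5 B hΘ
  have h2 := moment2 C h5 B hΘ
  have s0 : ∑ χ ∈ NE, co X ε d χ = ∑ χ ∈ NE, ε χ * dg χ := Finset.sum_congr rfl fun χ hχ => co_NE B hχ
  have s1 : ∑ χ ∈ NE, co X ε d χ * (ww T (χ : G → ℂ) + 3510) =
      ∑ χ ∈ NE, ε χ * dg χ * ww T (χ : G → ℂ) + 3510 * ∑ χ ∈ NE, ε χ * dg χ := by
    rw [Finset.mul_sum, ← Finset.sum_add_distrib]
    exact Finset.sum_congr rfl fun χ hχ => by rw [co_NE B hχ]; ring
  have s2 : ∑ χ ∈ NE, co X ε d χ * (ww T (χ : G → ℂ) + 3510) ^ 2 = ∑ χ ∈ NE, ε χ * dg χ * ww T (χ : G → ℂ) ^ 2 +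
      7020 * ∑ χ ∈ NE, ε χ * dg χ * ww T (χ : G → ℂ) + 3510 ^ 2 * ∑ χ ∈ NE, ε χ * dg χ := by
    rw [Finset.mul_sum, Finset.mul_sum, ← Finset.sum_add_distrib, ← Finset.sum_add_distrib]
    exact Finset.sum_congr rfl fun χ hχ => by rw [co_NE B hχ]; ring
  rw [s0, s1, s2, co_X hΘ]
  refine ⟨h0, ?_, ?_⟩
  · linear_combination h1 + 3510 * h0
  · linear_combination h2 + 7020 * h1 + 3510 ^ 2 * h0

end p

theorem of_cd {c : ℤ} (h : c.natAbs < 100000000) {n : ℕ} (hc : cd c = n) : c = (n : ℤ) - 100000000 := by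
  have h1 := cd_cast h
  rw [hc] at h1
  omega

theorem dg_pos (χ : IrrCharacter G) : 0 < dg χ := by
  have h := dg_cast χ
  have h1 : (dg χ : ℂ) ≠ 0 := by
    rw [← h]
    obtain ⟨n, ρ, hρ, h2⟩ := χ.2
    rw [← h2]
    exact Characters.Central.char_one_ne_zero ρ hρ
  have h2 : dg χ ≠ 0 := by exact_mod_cast h1
  have h3 : 0 ≤ dg χ := by unfold dg; positivity
  omega

theorem dg_eq {χ : IrrCharacter G} {n : ℕ} (h : charDegree (χ : G → ℂ) = n) : dg χ = n := by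
  unfold dg; rw [h]

theorem ne_of_deg {χ ψ : IrrCharacter G} {m n : ℕ} (h : charDegree (χ : G → ℂ) = m) (h' : charDegree (ψ : G → ℂ) = n)
    (hne : m ≠ n) : χ ≠ ψ := by
  rintro rfl
  exact hne (h.symm.trans h')

theorem deg_one : charDegree (Blk.one G : G → ℂ) = 1 := by
  have h := dg_one (G := G)
  unfold dg at h
  exact_mod_cast h

variable [IsSimpleGroup G]

theorem lt_deg (hna : ¬ IsMulCommutative G) (C : Ctx G T) {χ : IrrCharacter G} (h : χ ≠ Blk.one G) :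
    charDegree (χ : G → ℂ) < 100000000 := adm_lt (adm C χ (ne_one_deg hna h))

theorem rs11_of {w : ℤ} {n : ℕ} (hw : w.natAbs < 3510) (h : (11 : ℤ) ∣ w - 1) : S11.rs n (w + 3510).toNat = true := by
  unfold S11.rs
  refine beq_of_eq ?_
  show (w + 3510).toNat % 11 = 2
  omega

theorem rs13_of {w : ℤ} {n : ℕ} (hw : w.natAbs < 3510) (h : (11 : ℤ) ∣ (n : ℤ) ∨ (11 : ℤ) ∣ w + 1 ∨ (11 : ℤ) ∣ w - 1) :
    S13.rs n (w + 3510).toNat = true := by
  unfold S13.rs
  have hb : ∀ {a b : ℕ}, a = b → Nat.beq a b = true := fun h => beq_of_eq h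
  rcases h with h | h | h
  · have h1 : Nat.beq (Nat.mod n 11) 0 = true := hb (by show n % 11 = 0; omega)
    rw [h1]; rfl
  · have h1 : Nat.beq (Nat.mod (w + 3510).toNat 11) 0 = true := hb (by show (w + 3510).toNat % 11 = 0; omega)
    rw [h1]
    cases Nat.beq (Nat.mod n 11) 0 <;> cases Nat.beq (Nat.mod (w + 3510).toNat 11) 2 <;> rfl
  · have h1 : Nat.beq (Nat.mod (w + 3510).toNat 11) 2 = true := hb (by show (w + 3510).toNat % 11 = 2; omega)
    rw [h1]
    cases Nat.beq (Nat.mod n 11) 0 <;> rfl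

/-- **The principal 11-block.** -/
theorem find11 (hna : ¬ IsMulCommutative G) (e : G ≃* Spor.Fi22) [Fact (Nat.Prime 11)] {P : Sylow 11 G}
    {K : Subgroup G} {NE X : Finset (IrrCharacter G)} {ε : IrrCharacter G → ℤ} {d : ℤ} {k : G}
    (D : D11 (TK e) P K NE X ε d k) {κ : IrrCharacter G} (hκ : charDegree (κ : G → ℂ) = 13650)
    (hw : ww (TK e) (κ : G → ℂ) = 342 ∨ ww (TK e) (κ : G → ℂ) = 1926) :
    (∃ β : IrrCharacter G, charDegree (β : G → ℂ) = 1791153 ∧ (11 : ℤ) ∣ ww (TK e) (β : G → ℂ) - 1 ∧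
      ∀ β' : IrrCharacter G, charDegree (β' : G → ℂ) = 1791153 → (11 : ℤ) ∣ ww (TK e) (β' : G → ℂ) - 1 → β' = β) ∧
    ∃ κ' : IrrCharacter G, charDegree (κ' : G → ℂ) = 1360800 ∧ ww (TK e) (κ' : G → ℂ) = 78 := by
  classical
  have C := Inst.ctx e
  have B := D.B
  have hdκ := dg_eq hκ
  push_cast at hdκ
  -- nonexceptional members of degree 13650
  have hκNE : κ ∈ NE := by
    rcases D.tri C κ with h | h | h | h
    · rw [hdκ] at h; revert h; norm_num
    · rcases hw with hw | hw <;> rw [hw] at h <;> revert h <;> norm_num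
    · exact h
    · exfalso
      have h1 := B.congX κ h
      rw [hdκ] at h1
      rcases B.sd with h2 | h2 <;> rw [h2] at h1 <;> revert h1 <;> norm_num
  have hεκ : ε κ = -1 := by
    have h1 := B.cong κ hκNE
    rw [hdκ] at h1
    rcases B.sg κ hκNE with h2 | h2
    · exfalso; rw [h2] at h1; revert h1; norm_num
    · exact h2
  have hκ1 : κ ≠ Blk.one G := ne_of_deg hκ deg_one (by norm_num)
  obtain ⟨Θ, hΘ⟩ : X.Nonempty := by rw [← Finset.card_pos, B.cX]; norm_num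
  have hΘ1 : Θ ≠ Blk.one G := by
    rintro rfl
    exact Finset.disjoint_left.1 B.disj B.one hΘ
  obtain ⟨m0, m1, m2⟩ := mom C (by norm_num) B hΘ
  set F := (NE.erase (Blk.one G)).erase κ with hF
  have mF : ∀ {χ}, χ ∈ F ↔ χ ≠ κ ∧ χ ≠ Blk.one G ∧ χ ∈ NE := by
    intro χ; rw [hF, Finset.mem_erase, Finset.mem_erase]
  have hsplit : ∀ g : IrrCharacter G → ℤ, ∑ χ ∈ NE, g χ = g (Blk.one G) + g κ + ∑ χ ∈ F, g χ := by
    intro g
    rw [← Finset.add_sum_erase NE g B.one, ← Finset.add_sum_erase (NE.erase (Blk.one G)) g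
      (Finset.mem_erase.2 ⟨hκ1, hκNE⟩)]
    ring
  have hFc : F.card = 3 := by
    rw [hF, Finset.card_erase_of_mem (Finset.mem_erase.2 ⟨hκ1, hκNE⟩), Finset.card_erase_of_mem B.one, B.cNE]
  rw [hsplit] at m0 m1 m2
  have c1 : co X ε d (Blk.one G) = 1 := by rw [co_NE B B.one, B.eone, dg_one]; norm_num
  have cκ : co X ε d κ = -13650 := by rw [co_NE B hκNE, hεκ, hdκ]; norm_num
  rw [c1, cκ] at m0 m1 m2
  rw [ww_one C] at m1 m2
  have hmem : ∀ χ, χ ∈ F ∨ χ = Θ → (χ ∈ NE ∨ χ ∈ X) ∧ χ ≠ Blk.one G := by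
    intro χ h
    rcases h with h | rfl
    · exact ⟨Or.inl (mF.1 h).2.2, (mF.1 h).2.1⟩
    · exact ⟨Or.inr hΘ, hΘ1⟩
  have hadm : ∀ χ, χ ∈ F ∨ χ = Θ → Adm (co X ε d χ).natAbs (ww (TK e) (χ : G → ℂ)) := by
    intro χ h
    obtain ⟨h1, h2⟩ := hmem χ h
    rw [natAbs_co B h1]
    exact adm C χ (ne_one_deg hna h2)
  have hlt : ∀ χ, χ ∈ F ∨ χ = Θ → (co X ε d χ).natAbs < 100000000 := fun χ h => adm_lt (hadm χ h)
  have hex : ∀ n : ℕ, ¬ (11 : ℤ) ∣ (100000000 - n) - 5 → cd (co X ε d Θ) ≠ n := by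
    intro n hn h
    have h1 := of_cd (hlt Θ (Or.inr rfl)) h
    rw [co_X hΘ] at h1
    have h2 := B.congX Θ hΘ
    have h3 : d * dg Θ - (5 : ℕ) = (100000000 - n) - 5 := by push_cast; linear_combination -h1
    rw [h3] at h2
    exact hn h2
  obtain ⟨kn, hkn, k1, k2⟩ : ∃ kn ∈ S11.KN, ((kn.C : ℤ) - 100000000 * kn.W =
      1 * (3510 + 3510) + -13650 * (ww (TK e) (κ : G → ℂ) + 3510)) ∧ ((kn.C2 : ℤ) - 100000000 * kn.W2 =
      1 * (3510 + 3510) ^ 2 + -13650 * (ww (TK e) (κ : G → ℂ) + 3510) ^ 2) := by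
    rcases hw with hw | hw
    · refine ⟨_, List.mem_cons_self, ?_, ?_⟩ <;> rw [hw] <;> norm_num
    · refine ⟨_, List.mem_cons_of_mem _ List.mem_cons_self, ?_, ?_⟩ <;> rw [hw] <;> norm_num
  have hU := use (p := 11) (q := 13) (m := 4291) (by norm_num) (T := S11.T) (S := -13649) S11.hD S11.hDD S11.ht S11.main
    (by norm_num) hFc (c := co X ε d) (w := fun χ => ww (TK e) (χ : G → ℂ)) (Θ := Θ) hadm
    (fun χ h => rs11_of (hadm χ h).bd (D.w1 C (hmem χ h).1))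
    (fun χ h => by rw [natAbs_co B (hmem χ h).1]; exact res13 hna e χ)
    (fun χ h => by
      have h1 := (mF.1 h).2.2
      rw [co_NE B h1]
      exact B.cong χ h1) hkn (by linear_combination m0)
    (by rw [k1]; linear_combination m1) (by rw [k2]; linear_combination m2)
    (hex _ (by norm_num [S11.T])) (hex _ (by norm_num [S11.T]))
  obtain ⟨⟨β, hβF, hβ, hβu⟩, hκ'⟩ := hU
  obtain ⟨κ', hκF, hκc, hκw⟩ := hκ' rfl
  -- the degree from the code
  have hdeg : ∀ χ ∈ F, ∀ n : ℕ, cd (co X ε d χ) = 100000000 + n → charDegree (χ : G → ℂ) = n := by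
    intro χ h n hn
    have h1 := of_cd (hlt χ (Or.inl h)) hn
    rw [← natAbs_co B (Or.inl (mF.1 h).2.2), h1]
    push_cast
    have h2 : (100000000 + (n : ℤ) - 100000000) = n := by ring
    rw [h2, Int.natAbs_natCast]
  have hβd : charDegree (β : G → ℂ) = 1791153 := hdeg β hβF 1791153 hβ
  have hκd : charDegree (κ' : G → ℂ) = 1360800 := hdeg κ' hκF 1360800 hκc
  refine ⟨⟨β, hβd, D.w1 C (Or.inl (mF.1 hβF).2.2), ?_⟩, κ', hκd, ?_⟩
  · intro β' hβ' hw'
    have hd' := dg_eq hβ'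
    push_cast at hd'
    have hNE : β' ∈ NE := by
      rcases D.tri C β' with h | h | h | h
      · rw [hd'] at h; revert h; norm_num
      · exfalso
        have h1 := dvd_sub h hw'
        have h2 : ww (TK e) (β' : G → ℂ) + 1 - (ww (TK e) (β' : G → ℂ) - 1) = 2 := by ring
        rw [h2] at h1
        revert h1; norm_num
      · exact h
      · exfalso
        have h1 := B.congX β' h
        rw [hd'] at h1
        rcases B.sd with h2 | h2 <;> rw [h2] at h1 <;> revert h1 <;> norm_num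
    have hε : ε β' = 1 := by
      have h1 := B.cong β' hNE
      rw [hd'] at h1
      rcases B.sg β' hNE with h2 | h2
      · exact h2
      · exfalso; rw [h2] at h1; revert h1; norm_num
    refine hβu β' (mF.2 ⟨ne_of_deg hβ' hκ (by norm_num), ne_of_deg hβ' deg_one (by norm_num), hNE⟩) ?_
    rw [co_NE B hNE, hε, hd']
    rfl
  · have h1 := (hadm κ' (Or.inl hκF)).bd
    have h2 : (ww (TK e) (κ' : G → ℂ) + 3510).toNat = 3588 := hκw
    omega

/-- **The principal 13-block.** -/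
theorem find13 (hna : ¬ IsMulCommutative G) (e : G ≃* Spor.Fi22) [Fact (Nat.Prime 11)] {P' : Sylow 11 G}
    {K' : Subgroup G} {NE' X' : Finset (IrrCharacter G)} {ε' : IrrCharacter G → ℤ} {d' : ℤ} {k : G}
    (D' : D11 (TK e) P' K' NE' X' ε' d' k) [Fact (Nat.Prime 13)] {P : Sylow 13 G}
    {K : Subgroup G} {NE X : Finset (IrrCharacter G)} {ε : IrrCharacter G → ℤ} {d : ℤ}
    (D : D13 P K NE X ε d) {κ : IrrCharacter G} (hκ : charDegree (κ : G → ℂ) = 3080)
    (hw : ww (TK e) (κ : G → ℂ) = 702) {κ' : IrrCharacter G} (hκ' : charDegree (κ' : G → ℂ) = 1360800)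
    (hw' : ww (TK e) (κ' : G → ℂ) = 78) :
    ∃ α : IrrCharacter G, charDegree (α : G → ℂ) = 1441792 ∧
      ∀ α' : IrrCharacter G, charDegree (α' : G → ℂ) = 1441792 → α' = α := by
  classical
  have C := Inst.ctx e
  have B := D.B
  have key : ∀ {χ : IrrCharacter G} {n : ℕ}, charDegree (χ : G → ℂ) = n → ¬ (13 : ℤ) ∣ n → ¬ (13 : ℤ) ∣ n - 6 →
      ¬ (13 : ℤ) ∣ n + 6 → χ ∈ NE := by
    intro χ n hn h1 h2 h3
    have hd := dg_eq hn
    rcases D.mem (χ := χ) (by rw [hd]; exact h1) with h | h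
    · exact h
    · exfalso
      have h4 := B.congX χ h
      rw [hd] at h4
      rcases B.sd with h5 | h5 <;> rw [h5] at h4
      · push_cast at h4
        rw [one_mul] at h4
        exact h2 h4
      · push_cast at h4
        have h6 : -1 * (n : ℤ) - 6 = -(n + 6) := by ring
        rw [h6, dvd_neg] at h4
        exact h3 h4
  have hdκ := dg_eq hκ
  have hdκ' := dg_eq hκ'
  push_cast at hdκ hdκ'
  have hκNE : κ ∈ NE := key hκ (by norm_num) (by norm_num) (by norm_num)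
  have hκNE' : κ' ∈ NE := key hκ' (by norm_num) (by norm_num) (by norm_num)
  have hεκ : ε κ = -1 := by
    have h1 := B.cong κ hκNE
    rw [hdκ] at h1
    rcases B.sg κ hκNE with h2 | h2
    · exfalso; rw [h2] at h1; revert h1; norm_num
    · exact h2
  have hεκ' : ε κ' = -1 := by
    have h1 := B.cong κ' hκNE'
    rw [hdκ'] at h1
    rcases B.sg κ' hκNE' with h2 | h2
    · exfalso; rw [h2] at h1; revert h1; norm_num
    · exact h2
  have hκ1 : κ ≠ Blk.one G := ne_of_deg hκ deg_one (by norm_num)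
  have hκ1' : κ' ≠ Blk.one G := ne_of_deg hκ' deg_one (by norm_num)
  have hκκ' : κ' ≠ κ := ne_of_deg hκ' hκ (by norm_num)
  obtain ⟨Θ, hΘ⟩ : X.Nonempty := by rw [← Finset.card_pos, B.cX]; norm_num
  have hΘ1 : Θ ≠ Blk.one G := by
    rintro rfl
    exact Finset.disjoint_left.1 B.disj B.one hΘ
  obtain ⟨m0, m1, m2⟩ := mom C (by norm_num) B hΘ
  set F := ((NE.erase (Blk.one G)).erase κ).erase κ' with hF
  have mF : ∀ {χ}, χ ∈ F ↔ χ ≠ κ' ∧ χ ≠ κ ∧ χ ≠ Blk.one G ∧ χ ∈ NE := by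
    intro χ; rw [hF, Finset.mem_erase, Finset.mem_erase, Finset.mem_erase]
  have hsplit : ∀ g : IrrCharacter G → ℤ, ∑ χ ∈ NE, g χ = g (Blk.one G) + g κ + g κ' + ∑ χ ∈ F, g χ := by
    intro g
    rw [← Finset.add_sum_erase NE g B.one, ← Finset.add_sum_erase (NE.erase (Blk.one G)) g
      (Finset.mem_erase.2 ⟨hκ1, hκNE⟩), ← Finset.add_sum_erase ((NE.erase (Blk.one G)).erase κ) g
      (Finset.mem_erase.2 ⟨hκκ', Finset.mem_erase.2 ⟨hκ1', hκNE'⟩⟩)]
    ring
  have hFc : F.card = 3 := by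
    rw [hF, Finset.card_erase_of_mem (Finset.mem_erase.2 ⟨hκκ', Finset.mem_erase.2 ⟨hκ1', hκNE'⟩⟩),
      Finset.card_erase_of_mem (Finset.mem_erase.2 ⟨hκ1, hκNE⟩), Finset.card_erase_of_mem B.one, B.cNE]
  rw [hsplit] at m0 m1 m2
  have c1 : co X ε d (Blk.one G) = 1 := by rw [co_NE B B.one, B.eone, dg_one]; norm_num
  have cκ : co X ε d κ = -3080 := by rw [co_NE B hκNE, hεκ, hdκ]; norm_num
  have cκ' : co X ε d κ' = -1360800 := by rw [co_NE B hκNE', hεκ', hdκ']; norm_num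
  rw [c1, cκ, cκ'] at m0 m1 m2
  rw [ww_one C, hw, hw'] at m1 m2
  have hmem : ∀ χ, χ ∈ F ∨ χ = Θ → (χ ∈ NE ∨ χ ∈ X) ∧ χ ≠ Blk.one G := by
    intro χ h
    rcases h with h | rfl
    · exact ⟨Or.inl (mF.1 h).2.2.2, (mF.1 h).2.2.1⟩
    · exact ⟨Or.inr hΘ, hΘ1⟩
  have hadm : ∀ χ, χ ∈ F ∨ χ = Θ → Adm (co X ε d χ).natAbs (ww (TK e) (χ : G → ℂ)) := by
    intro χ h
    obtain ⟨h1, h2⟩ := hmem χ h
    rw [natAbs_co B h1]
    exact adm C χ (ne_one_deg hna h2)
  have hlt : ∀ χ, χ ∈ F ∨ χ = Θ → (co X ε d χ).natAbs < 100000000 := fun χ h => adm_lt (hadm χ h)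
  have hex : ∀ n : ℕ, ¬ (13 : ℤ) ∣ (100000000 - n) - 6 → cd (co X ε d Θ) ≠ n := by
    intro n hn h
    have h1 := of_cd (hlt Θ (Or.inr rfl)) h
    rw [co_X hΘ] at h1
    have h2 := B.congX Θ hΘ
    have h3 : d * dg Θ - (6 : ℕ) = (100000000 - n) - 6 := by push_cast; linear_combination -h1
    rw [h3] at h2
    exact hn h2
  have hU := use (p := 13) (q := 11) (m := 1123) (by norm_num) (T := S13.T) (S := -1363879) (rs := S13.rs) S13.hD S13.hDD
    S13.ht S13.main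
    (by norm_num) hFc (c := co X ε d) (w := fun χ => ww (TK e) (χ : G → ℂ)) (Θ := Θ) hadm
    (fun χ h => rs13_of (hadm χ h).bd (by
      rw [natAbs_co B (hmem χ h).1]
      rcases D'.tri C χ with h1 | h1 | h1
      · exact Or.inl h1
      · exact Or.inr (Or.inl h1)
      · exact Or.inr (Or.inr (D'.w1 C h1))))
    (fun χ h => by rw [natAbs_co B (hmem χ h).1]; exact res11 hna e χ)
    (fun χ h => by
      have h1 := (mF.1 h).2.2.2
      rw [co_NE B h1]
      exact B.cong χ h1) (kn := ⟨1477104483660, 14820, 7971935616337680, 79895088⟩) List.mem_cons_self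
    (by linear_combination m0)
    (by push_cast; linear_combination m1) (by push_cast; linear_combination m2)
    (hex _ (by norm_num [S13.T])) (by
      show cd (co X ε d Θ) ≠ 0
      intro h
      have h1 := of_cd (hlt Θ (Or.inr rfl)) h
      have h2 := hlt Θ (Or.inr rfl)
      rw [h1] at h2
      norm_num at h2)
  obtain ⟨⟨α, hαF, hα, hαu⟩, -⟩ := hU
  have hdeg : ∀ χ ∈ F, ∀ n : ℕ, cd (co X ε d χ) = 100000000 + n → charDegree (χ : G → ℂ) = n := by
    intro χ h n hn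
    have h1 := of_cd (hlt χ (Or.inl h)) hn
    rw [← natAbs_co B (Or.inl (mF.1 h).2.2.2), h1]
    push_cast
    have h2 : (100000000 + (n : ℤ) - 100000000) = n := by ring
    rw [h2, Int.natAbs_natCast]
  have hαd : charDegree (α : G → ℂ) = 1441792 := hdeg α hαF 1441792 hα
  refine ⟨α, hαd, ?_⟩
  intro α' hα'
  have hd' := dg_eq hα'
  push_cast at hd'
  have hNE : α' ∈ NE := key hα' (by norm_num) (by norm_num) (by norm_num)
  have hε : ε α' = 1 := by
    have h1 := B.cong α' hNE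
    rw [hd'] at h1
    rcases B.sg α' hNE with h2 | h2
    · exact h2
    · exfalso; rw [h2] at h1; revert h1; norm_num
  refine hαu α' (mF.2 ⟨ne_of_deg hα' hκ' (by norm_num), ne_of_deg hα' hκ (by norm_num),
    ne_of_deg hα' deg_one (by norm_num), hNE⟩) ?_
  rw [co_NE B hNE, hε, hd']
  rfl

end Cfsg.Agent.H618.LD.Find
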