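import Cfsg.Agent.H618.LD.Blk
import Cfsg.Agent.H618.LD.Ev
import Cfsg.Agent.SporadicA.M11CharSimple
import Cfsg.Agent.H531.MB.SieveB

/-!
# S4910, row Fi22 (helper618): moments and congruences
-/

set_option autoImplicit false
set_option linter.unusedSectionVars false

open Cfsg
open scoped ComplexConjugate

namespace Cfsg.Agent.H618.LD.Mom

open Subgroup
open Cfsg.Agent.LThreeFi22 Cfsg.Agent.H618.LD.Tw Cfsg.Agent.H618.LD.Ev Cfsg.Agent.H618.LD.Blk Cfsg.Agent.H618.LD.Num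
open Cfsg.Agent.SmallSimple.ThetaSetup Cfsg.Agent.SmallSimple.ThetaOrtho

universe u

variable {G : Type u} [Group G] [Finite G] {T : Set G} {p : ℕ} [hp : Fact p.Prime]

/-! ### regular elements -/

theorem reg_of_pow {g : G} {n : ℕ} (h : g ^ n = 1) (hn : ¬ p ∣ n) : ¬ p ∣ orderOf g :=
  fun h1 => hn (h1.trans (orderOf_dvd_of_pow_eq_one h))

theorem reg_T (C : Ctx G T) (h5 : 5 ≤ p) {s : G} (hs : s ∈ T) : ¬ p ∣ orderOf s := by
  refine reg_of_pow (n := 2) (by rw [pow_two]; exact C.sq s hs) ?_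
  intro h
  have := Nat.le_of_dvd (by norm_num) h
  omega

theorem reg_TT (C : Ctx G T) (h5 : 5 ≤ p) {s s' : G} (hs : s ∈ T) (hs' : s' ∈ T) : ¬ p ∣ orderOf (s * s') := by
  have h1 := C.sq s hs
  have h2 := C.sq s' hs'
  by_cases h : s * s' = s' * s
  · refine reg_of_pow (n := 2) ?_ ?_
    · rw [pow_two]
      calc s * s' * (s * s') = s * (s' * s) * s' := by group
        _ = s * (s * s') * s' := by rw [← h]
        _ = (s * s) * (s' * s') := by group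
        _ = 1 := by rw [h1, h2, mul_one]
    · intro h
      have := Nat.le_of_dvd (by norm_num) h
      omega
  · have h3 : s * s' * s = s' * s * s' := (C.three s hs s' hs').resolve_left h
    refine reg_of_pow (n := 3) ?_ ?_
    · calc (s * s') ^ 3 = (s * s' * s) * (s' * s * s') := by
            simp only [pow_succ, pow_zero, one_mul, mul_assoc]
        _ = (s' * s * s') * (s' * s * s') := by rw [h3]
        _ = s' * s * (s' * s') * (s * s') := by simp only [mul_assoc]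
        _ = s' * (s * s) * s' := by rw [h2]; simp only [mul_assoc, mul_one]
        _ = 1 := by rw [h1, mul_one, h2]
    · intro h
      have := Nat.le_of_dvd (by norm_num) h
      omega

/-! ### moments -/

theorem sumT (C : Ctx G T) (χ : IrrCharacter G) :
    ∑ s ∈ TF T, (χ : G → ℂ) s = ((dg χ * ww T χ : ℤ) : ℂ) := by
  have h := sum_mul χ.2 (cl C) 1
  simp only [mul_one] at h
  rw [h, ww_cast C χ.2, dg_cast]
  push_cast
  ring

theorem sumTT (C : Ctx G T) (χ : IrrCharacter G) :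
    ∑ s' ∈ TF T, ∑ s ∈ TF T, (χ : G → ℂ) (s * s') = ((dg χ * ww T χ ^ 2 : ℤ) : ℂ) := by
  rw [Finset.sum_congr rfl fun s' _ => sum_mul χ.2 (cl C) s', ← Finset.mul_sum, sumT C, ww_cast C χ.2]
  push_cast
  ring

section PBs

variable {P : Sylow p G} {K : Subgroup G} {e t : ℕ} {NE X : Finset (IrrCharacter G)} {ε : IrrCharacter G → ℤ} {d : ℤ}
  {Θ : IrrCharacter G}

theorem moment0 (B : PB P K e t NE X ε d) (hΘ : Θ ∈ X) : ∑ χ ∈ NE, ε χ * dg χ + -d * dg Θ = 0 := by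
  have h := B.rel Θ hΘ 1 not_dvd_one
  rw [Finset.sum_congr rfl (g := fun χ => (ε χ : ℂ) * (dg χ : ℂ)) (fun χ _ => by rw [dg_cast]), dg_cast] at h
  have h1 : ((∑ χ ∈ NE, ε χ * dg χ + -d * dg Θ : ℤ) : ℂ) = ((0 : ℤ) : ℂ) := by
    push_cast
    rw [h]; ring
  exact_mod_cast h1

theorem moment1 (C : Ctx G T) (h5 : 5 ≤ p) (B : PB P K e t NE X ε d) (hΘ : Θ ∈ X) :
    ∑ χ ∈ NE, ε χ * dg χ * ww T χ + -d * dg Θ * ww T Θ = 0 := by
  have h : ∑ s ∈ TF T, ∑ χ ∈ NE, (ε χ : ℂ) * (χ : G → ℂ) s = ∑ s ∈ TF T, (d : ℂ) * (Θ : G → ℂ) s :=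
    Finset.sum_congr rfl fun s hs => B.rel Θ hΘ s (reg_T C h5 (mem_TF.1 hs))
  rw [Finset.sum_comm, ← Finset.mul_sum, sumT C,
    Finset.sum_congr rfl (g := fun χ => (ε χ : ℂ) * ((dg χ * ww T χ : ℤ) : ℂ)) (fun χ _ => by
      rw [← Finset.mul_sum, sumT C])] at h
  have h1 : ((∑ χ ∈ NE, ε χ * dg χ * ww T χ + -d * dg Θ * ww T Θ : ℤ) : ℂ) = ((0 : ℤ) : ℂ) := by
    push_cast at h ⊢
    rw [Finset.sum_congr rfl (g := fun χ : IrrCharacter G => (ε χ : ℂ) * ((dg χ : ℂ) * (ww T χ : ℂ)))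
      (fun χ _ => by ring), h]
    ring
  exact_mod_cast h1

theorem moment2 (C : Ctx G T) (h5 : 5 ≤ p) (B : PB P K e t NE X ε d) (hΘ : Θ ∈ X) :
    ∑ χ ∈ NE, ε χ * dg χ * ww T χ ^ 2 + -d * dg Θ * ww T Θ ^ 2 = 0 := by
  have h : ∑ s' ∈ TF T, ∑ s ∈ TF T, ∑ χ ∈ NE, (ε χ : ℂ) * (χ : G → ℂ) (s * s') =
      ∑ s' ∈ TF T, ∑ s ∈ TF T, (d : ℂ) * (Θ : G → ℂ) (s * s') :=
    Finset.sum_congr rfl fun s' hs' => Finset.sum_congr rfl fun s hs =>
      B.rel Θ hΘ (s * s') (reg_TT C h5 (mem_TF.1 hs) (mem_TF.1 hs'))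
  have h2 : ∑ s' ∈ TF T, ∑ s ∈ TF T, ∑ χ ∈ NE, (ε χ : ℂ) * (χ : G → ℂ) (s * s') =
      ∑ χ ∈ NE, (ε χ : ℂ) * ((dg χ * ww T χ ^ 2 : ℤ) : ℂ) := by
    rw [Finset.sum_congr rfl fun s' _ => Finset.sum_comm, Finset.sum_comm]
    refine Finset.sum_congr rfl fun χ _ => ?_
    rw [Finset.sum_congr rfl fun s' _ => (Finset.mul_sum _ _ _).symm, ← Finset.mul_sum, sumTT C]
  have h3 : ∑ s' ∈ TF T, ∑ s ∈ TF T, (d : ℂ) * (Θ : G → ℂ) (s * s') = (d : ℂ) * ((dg Θ * ww T Θ ^ 2 : ℤ) : ℂ) := by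
    rw [Finset.sum_congr rfl fun s' _ => (Finset.mul_sum _ _ _).symm, ← Finset.mul_sum, sumTT C]
  rw [h2, h3] at h
  have h1 : ((∑ χ ∈ NE, ε χ * dg χ * ww T χ ^ 2 + -d * dg Θ * ww T Θ ^ 2 : ℤ) : ℂ) = ((0 : ℤ) : ℂ) := by
    push_cast at h ⊢
    rw [Finset.sum_congr rfl (g := fun χ : IrrCharacter G => (ε χ : ℂ) * ((dg χ : ℂ) * (ww T χ : ℂ) ^ 2))
      (fun χ _ => by ring), h]
    ring
  exact_mod_cast h1

end PBs

/-! ### the characters not over the trivial character -/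

/-- the sum over `K` -/
theorem dvd_of_not_mem {P : Sylow p G} (hP : Nat.card P = p) {K : Subgroup G} (hK : IsComp p (P : Subgroup G) K)
    [Fintype K] {χ : IrrCharacter G} (h : χ ∉ Over P (1 : K → ℂ)) {m : ℤ} (hm : ∑ y : K, (χ : G → ℂ) y = m) :
    (p : ℤ) ∣ m := by
  obtain ⟨M, hM⟩ := Blocks.ExistsModular.exists_isPModular hp.out
  have := Blocks.Local.isPrime_of_isPModular hM
  obtain ⟨x, hx, hx1⟩ := exists_ne_one (P := (P : Subgroup G)) hP
  have h1 := part_eq_zero h (x := ⟨x, hx⟩) (fun h => hx1 (congrArg Subtype.val h))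
  rw [part_eq] at h1
  have h2 : ∑ y : K, (χ : G → ℂ) (x * y) = 0 := by
    have h3 := (mul_eq_zero.1 h1).resolve_left (inv_ne_zero (by exact_mod_cast Nat.card_pos.ne'))
    rw [← h3]
    refine Finset.sum_congr rfl fun y _ => ?_
    show _ = (χ : G → ℂ) (x * y) * conj (1 : ℂ)
    rw [map_one, mul_one]
  have hox : orderOf x = p ^ 1 := by rw [pow_one]; exact Blocks.CyclicOrtho.orderOf_eq P hP hx hx1
  have h3 : MemLocalIdeal M (∑ y : K, (χ : G → ℂ) (x * y) - ∑ y : K, (χ : G → ℂ) y) := by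
    refine Blocks.Local.memLocalIdeal_sum_sub_sum fun y _ => ?_
    have h4 := Cfsg.Agent.CharactersDeep.ModCongr.memLocalIdeal_character_sub hM χ.2 (x * y) x
      ⟨y, rfl, hK.comm hx y.2, ⟨1, hox⟩, ((hK y).1 y.2).2⟩
    have h5 : x⁻¹ * (x * y) = y := by group
    rwa [h5] at h4
  rw [h2, hm, zero_sub, Blocks.Local.memLocalIdeal_neg_iff] at h3
  exact (Blocks.Local.memLocalIdeal_intCast_iff hM _).1 h3

theorem dvd_of_bot {P : Sylow p G} (hP : Nat.card P = p) {K : Subgroup G} (hK : IsComp p (P : Subgroup G) K)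
    (h1 : Nat.card K = 1) {χ : IrrCharacter G} (h : χ ∉ Over P (1 : K → ℂ)) : (p : ℤ) ∣ dg χ := by
  have := Fintype.ofFinite K
  refine dvd_of_not_mem hP hK h ?_
  have h2 : Subsingleton K := (Nat.card_eq_one_iff_unique.1 h1).1
  rw [Fintype.sum_subsingleton _ (1 : K)]
  exact dg_cast χ

theorem dvd_of_two {P : Sylow p G} (hP : Nat.card P = p) {K : Subgroup G} (hK : IsComp p (P : Subgroup G) K)
    (h1 : Nat.card K = 2) {k : G} (hk : k ∈ K) (hk1 : k ≠ 1) {χ : IrrCharacter G} (h : χ ∉ Over P (1 : K → ℂ)) {v : ℤ}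
    (hv : (χ : G → ℂ) k = v) : (p : ℤ) ∣ dg χ + v := by
  classical
  have := Fintype.ofFinite K
  refine dvd_of_not_mem hP hK h ?_
  have h2 : (Finset.univ : Finset K) = {1, ⟨k, hk⟩} := by
    symm
    apply Finset.eq_univ_of_card
    rw [Finset.card_pair (fun h => hk1 (congrArg Subtype.val h).symm), ← Nat.card_eq_fintype_card, h1]
  rw [h2, Finset.sum_pair (fun h => hk1 (congrArg Subtype.val h).symm)]
  push_cast
  rw [← dg_cast χ, ← hv]

end Cfsg.Agent.H618.LD.Mom
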