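import Cfsg.Agent.H618.LD.Mom
import Cfsg.Agent.H713.Spor.Fi22

/-!
# S4910, row Fi22 (helper618): the principal 11-block and 13-block
-/

set_option autoImplicit false
set_option linter.unusedSectionVars false

open Cfsg
open scoped ComplexConjugate

namespace Cfsg.Agent.H618.LD.Prin

open Subgroup
open Cfsg.Agent.LThreeFi22 Cfsg.Agent.H618.LD.Tw Cfsg.Agent.H618.LD.Ev Cfsg.Agent.H618.LD.Blk Cfsg.Agent.H618.LD.Num
  Cfsg.Agent.H618.LD.Mom
open Cfsg.Agent.SmallSimple.ThetaSetup Cfsg.Agent.SmallSimple.ThetaOrtho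
open Cfsg.Agent.KFacts.FiTT (TK)

universe u

theorem num1 {w d v : ℤ} (h : w * d = 3510 * v) (h1 : (11 : ℤ) ∣ d - v) : (11 : ℤ) ∣ d ∨ (11 : ℤ) ∣ w - 1 := by
  have h2 : (11 : ℤ) ∣ d * (w - 1) := by
    obtain ⟨k, hk⟩ := h1
    exact ⟨319 * v - k, by linear_combination h - hk⟩
  exact (Int.Prime.dvd_mul' (by norm_num) h2)

theorem num2 {w d v : ℤ} (h : w * d = 3510 * v) (h1 : (11 : ℤ) ∣ d + v) : (11 : ℤ) ∣ d ∨ (11 : ℤ) ∣ w + 1 := by
  have h2 : (11 : ℤ) ∣ d * (w + 1) := by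
    obtain ⟨k, hk⟩ := h1
    exact ⟨319 * v + k, by linear_combination h + hk⟩
  exact (Int.Prime.dvd_mul' (by norm_num) h2)

section gen

variable {G : Type u} [Group G] [Finite G] {T : Set G}

theorem exists_vt (C : Ctx G T) (χ : IrrCharacter G) : ∃ v : ℤ, (∀ a ∈ T, (χ : G → ℂ) a = v) ∧
    ww T (χ : G → ℂ) * dg χ = 3510 * v := by
  obtain ⟨v, s, r, h1, h2, h3, -⟩ := exists_v C χ.2
  exact ⟨v, h1, h3⟩

section p

variable {p : ℕ} [hp : Fact p.Prime] {P : Sylow p G} {K : Subgroup G} {e t : ℕ} {NE X : Finset (IrrCharacter G)}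
  {ε : IrrCharacter G → ℤ} {d : ℤ}

theorem ne_sq (B : PB P K e t NE X ε d) {χ : IrrCharacter G} (h : χ ∈ NE) : ε χ * ε χ = 1 := by
  rcases B.sg χ h with h1 | h1 <;> rw [h1] <;> norm_num

theorem d_sq (B : PB P K e t NE X ε d) : d * d = 1 := by
  rcases B.sd with h1 | h1 <;> rw [h1] <;> norm_num

/-- the value at an element of `K` in `T` -/
theorem cong_v (hP : Nat.card P = p) (hK : IsComp p (P : Subgroup G) K) (B : PB P K e t NE X ε d) {k : G} (hk : k ∈ K)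
    {χ : IrrCharacter G} (h : χ ∈ NE) {v : ℤ} (hv : (χ : G → ℂ) k = v) : (p : ℤ) ∣ ε χ * v - 1 := by
  obtain ⟨x, hx, hx1⟩ := exists_ne_one (P := (P : Subgroup G)) hP
  have hox : orderOf x = p ^ 1 := by rw [pow_one]; exact Blocks.CyclicOrtho.orderOf_eq P hP hx hx1
  have h1 := B.val χ h ⟨x, hx⟩ (fun h => hx1 (congrArg Subtype.val h)) ⟨k, hk⟩
  have h2 := int_cong χ (g := x * k) rfl (hK.comm hx hk) hox ((hK k).1 hk).2 h1 hv
  have h3 := ne_sq B h
  obtain ⟨m, hm⟩ := h2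
  exact ⟨-ε χ * m, by linear_combination (-ε χ) * hm + h3⟩

/-- members: `d ≡ v` -/
theorem cong_mem (hP : Nat.card P = p) (hK : IsComp p (P : Subgroup G) K) (B : PB P K e t NE X ε d) {k : G}
    (hk : k ∈ K) {χ : IrrCharacter G} (h : χ ∈ NE ∨ χ ∈ X) (hex : ∀ χ : IrrCharacter G, ∃ v : ℤ, (χ : G → ℂ) k = v)
    {v : ℤ} (hv : (χ : G → ℂ) k = v) : (p : ℤ) ∣ dg χ - v := by
  rcases h with h | h
  · obtain ⟨m, hm⟩ := cong_v hP hK B hk h hv
    obtain ⟨n, hn⟩ := B.cong χ h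
    have h3 := ne_sq B h
    exact ⟨ε χ * (n - m), by linear_combination (ε χ) * hn - (ε χ) * hm - (dg χ - v) * h3⟩
  · have h1 := B.rel χ h k ((hK k).1 hk).2
    have h2 := moment0 B h
    choose V hV using hex
    rw [hv, Finset.sum_congr rfl (g := fun χ => ((ε χ * V χ : ℤ) : ℂ)) (fun χ _ => by rw [hV χ]; push_cast; rfl),
      ← Int.cast_sum] at h1
    have h3 : ∑ χ ∈ NE, ε χ * V χ = d * v := by exact_mod_cast h1
    have h4 : (p : ℤ) ∣ ∑ χ ∈ NE, (ε χ * dg χ - ε χ * V χ) := by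
      refine Finset.dvd_sum fun ψ hψ => ?_
      have h5 := B.cong ψ hψ
      have h6 := cong_v hP hK B hk hψ (hV ψ)
      have h7 := dvd_sub h5 h6
      have h8 : ε ψ * dg ψ - 1 - (ε ψ * V ψ - 1) = ε ψ * dg ψ - ε ψ * V ψ := by ring
      rwa [h8] at h7
    rw [Finset.sum_sub_distrib, h3] at h4
    obtain ⟨m, hm⟩ := h4
    have h5 := d_sq B
    exact ⟨d * m, by linear_combination d * hm - d * h2 - (dg χ - v) * h5⟩

theorem not_dvd_ne (B : PB P K e t NE X ε d) {χ : IrrCharacter G} (h : χ ∈ NE) : ¬ (p : ℤ) ∣ dg χ := by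
  intro h1
  have h2 := dvd_sub (h1.mul_left (ε χ)) (B.cong χ h)
  have h3 : ε χ * dg χ - (ε χ * dg χ - 1) = 1 := by ring
  rw [h3] at h2
  have h4 := Int.le_of_dvd (by norm_num) h2
  have := hp.out.one_lt
  omega

theorem not_dvd_x (B : PB P K e t NE X ε d) (he : ¬ p ∣ e) {χ : IrrCharacter G} (h : χ ∈ X) : ¬ (p : ℤ) ∣ dg χ := by
  intro h1
  have h2 := dvd_sub (h1.mul_left d) (B.congX χ h)
  have h3 : d * dg χ - (d * dg χ - e) = e := by ring
  rw [h3] at h2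
  exact he (by exact_mod_cast h2)

end p

/-- the principal 11-block -/
structure D11 (T : Set G) [Fact (Nat.Prime 11)] (P : Sylow 11 G) (K : Subgroup G) (NE X : Finset (IrrCharacter G))
    (ε : IrrCharacter G → ℤ) (d : ℤ) (k : G) : Prop where
  hP : Nat.card P = 11
  hK : IsComp 11 (P : Subgroup G) K
  h2 : Nat.card K = 2
  hk : k ∈ K
  hkT : k ∈ T
  B : PB P K 5 2 NE X ε d

/-- the principal 13-block -/
structure D13 [Fact (Nat.Prime 13)] (P : Sylow 13 G) (K : Subgroup G) (NE X : Finset (IrrCharacter G))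
    (ε : IrrCharacter G → ℤ) (d : ℤ) : Prop where
  hP : Nat.card P = 13
  hK : IsComp 13 (P : Subgroup G) K
  h1 : Nat.card K = 1
  B : PB P K 6 2 NE X ε d

theorem ww_one (C : Ctx G T) : ww T (Blk.one G : G → ℂ) = 3510 := by
  have h := ww_cast C (Blk.one G).2
  have h1 : om (TF T) (Blk.one G : G → ℂ) = 3510 := by
    unfold om
    have h2 : ∀ g : G, (Blk.one G : G → ℂ) g = 1 := fun g => rfl
    simp only [h2, Finset.sum_const, card_TF C]
    norm_num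
  rw [h1] at h
  exact_mod_cast h.symm

theorem dg_one : dg (Blk.one G) = 1 := by
  have h := dg_cast (Blk.one G)
  have h1 : (Blk.one G : G → ℂ) 1 = 1 := rfl
  rw [h1] at h
  exact_mod_cast h.symm

theorem ne_one_deg [IsSimpleGroup G] (hna : ¬ IsMulCommutative G) {χ : IrrCharacter G} (h : χ ≠ Blk.one G) :
    charDegree (χ : G → ℂ) ≠ 1 := by
  intro h1
  apply h
  apply Subtype.ext
  refine SporadicA.M11CharSimple.eq_one_of_degree_one (fun hab => hna ⟨⟨hab⟩⟩) χ.2 ?_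
  rw [charDegree_cast χ.2, h1, Nat.cast_one]

variable [i11 : Fact (Nat.Prime 11)]

/-- **Trichotomy modulo 11.** -/
theorem D11.tri {P : Sylow 11 G} {K : Subgroup G} {NE X : Finset (IrrCharacter G)} {ε : IrrCharacter G → ℤ} {d : ℤ}
    {k : G} (D : D11 T P K NE X ε d k) (C : Ctx G T) (χ : IrrCharacter G) :
    (11 : ℤ) ∣ dg χ ∨ (11 : ℤ) ∣ ww T (χ : G → ℂ) + 1 ∨ (χ ∈ NE ∨ χ ∈ X) := by
  by_cases h : χ ∈ Over P (1 : K → ℂ)
  · exact Or.inr (Or.inr ((D.B.mem χ).1 h))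
  · obtain ⟨v, hv, hw⟩ := exists_vt C χ
    have hk1 : k ≠ 1 := C.ne1 k D.hkT
    have h1 := dvd_of_two D.hP D.hK D.h2 D.hk hk1 h (hv k D.hkT)
    rcases num2 hw h1 with h2 | h2
    · exact Or.inl h2
    · exact Or.inr (Or.inl h2)

theorem D11.w1 {P : Sylow 11 G} {K : Subgroup G} {NE X : Finset (IrrCharacter G)} {ε : IrrCharacter G → ℤ} {d : ℤ}
    {k : G} (D : D11 T P K NE X ε d k) (C : Ctx G T) {χ : IrrCharacter G} (h : χ ∈ NE ∨ χ ∈ X) :
    (11 : ℤ) ∣ ww T (χ : G → ℂ) - 1 := by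
  obtain ⟨v, hv, hw⟩ := exists_vt C χ
  have h1 := cong_mem D.hP D.hK D.B D.hk h (fun ψ => by
    obtain ⟨v', hv', -⟩ := exists_vt C ψ
    exact ⟨v', hv' k D.hkT⟩) (hv k D.hkT)
  rcases num1 hw h1 with h2 | h2
  · exfalso
    rcases h with h | h
    · exact not_dvd_ne D.B h h2
    · exact not_dvd_x D.B (by norm_num) h h2
  · exact h2

end gen

end Cfsg.Agent.H618.LD.Prin
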