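import Cfsg.Agent.H618.LD.Find
import Cfsg.Agent.H456.LD.Fi22Om
import Cfsg.Agent.H954.LD.Row
import Cfsg.Agent.H489.OutSpor
import Cfsg.Agent.R08.AutT

/-!
# S4910, the row Fi22 (helper618)

Characters of degrees `1441792` (the only one of this degree) and `1791153` (the only one of this degree in the
principal 11-block).
-/

set_option autoImplicit false
set_option linter.unusedSectionVars false

open Cfsg

namespace Cfsg.Agent.H618.LD

open Cfsg.Agent.LThreeFi22 Cfsg.Agent.H618.LD.Tw Cfsg.Agent.H618.LD.Ev Cfsg.Agent.H618.LD.Blk Cfsg.Agent.H618.LD.Num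
  Cfsg.Agent.H618.LD.Prin Cfsg.Agent.H618.LD.Find
open Cfsg.Agent.KFacts.FiTT (TK)

universe u

variable {S : Type u} [Group S]

theorem aut_TK (e : S ≃* Spor.Fi22) (b : MulAut S) {s : S} (h : s ∈ TK e) : b s ∈ TK e := by
  rw [Inst.mem_TK] at h ⊢
  have h1 := R08.AutT.aut_mem ((e.symm.trans b).trans e) h
  have h2 : ((e.symm.trans b).trans e) (e s) = e (b s) := by
    show e (b (e.symm (e s))) = e (b s)
    rw [e.symm_apply_apply]
  rwa [h2] at h1

variable [Finite S]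

theorem ww_tw (e : S ≃* Spor.Fi22) (b : MulAut S) (χ : IrrCharacter S) :
    ww (TK e) (H954.LD.tw b χ : S → ℂ) = ww (TK e) (χ : S → ℂ) := by
  have h : om (TF (TK e)) (H954.LD.tw b χ : S → ℂ) = om (TF (TK e)) (χ : S → ℂ) := by
    unfold om
    have h1 : (H954.LD.tw b χ : S → ℂ) 1 = (χ : S → ℂ) 1 := by rw [H954.LD.tw_apply, map_one]
    have h2 : ∑ s ∈ TF (TK e), (H954.LD.tw b χ : S → ℂ) s = ∑ s ∈ TF (TK e), (χ : S → ℂ) s := by
      refine Finset.sum_bij' (fun s _ => b s) (fun s _ => b.symm s) ?_ ?_ ?_ ?_ ?_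
      · intro s hs; exact mem_TF.2 (aut_TK e b (mem_TF.1 hs))
      · intro s hs; exact mem_TF.2 (aut_TK e b.symm (mem_TF.1 hs))
      · intro s _; exact b.symm_apply_apply s
      · intro s _; exact b.apply_symm_apply s
      · intro s _; exact H954.LD.tw_apply b χ s
    rw [h1, h2]
  unfold ww
  rw [h]

open scoped Classical in
/-- transfer of the eigenvalues through an isomorphism -/
theorem exists_tr (e : S ≃* Spor.Fi22) {d : ℕ} {Q : ℂ → Prop}
    (h : ∃ χ : IrrCharacter Cfsg.Spor.Fi22, charDegree (χ : Cfsg.Spor.Fi22 → ℂ) = d ∧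
      Q (om ((TF (TK e)).image e) (χ : Cfsg.Spor.Fi22 → ℂ))) :
    ∃ χ : IrrCharacter S, charDegree (χ : S → ℂ) = d ∧ Q (om (TF (TK e)) (χ : S → ℂ)) := by
  obtain ⟨χ, h1, h2⟩ := h
  refine ⟨⟨(χ : Cfsg.Spor.Fi22 → ℂ) ∘ e.toMonoidHom, Characters.Core.isIrr_comp e.toMonoidHom e.surjective χ.2⟩, ?_, ?_⟩
  · rw [← h1]
    show charDegree ((χ : Cfsg.Spor.Fi22 → ℂ) ∘ e) = _
    unfold charDegree
    rw [Function.comp_apply, map_one]
  · have h3 : om (TF (TK e)) ((χ : Cfsg.Spor.Fi22 → ℂ) ∘ e) = om ((TF (TK e)).image e) (χ : Cfsg.Spor.Fi22 → ℂ) := by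
      unfold om
      rw [Finset.sum_image (fun a _ b _ hab => e.injective hab), Function.comp_apply, map_one]
      rfl
    show Q (om (TF (TK e)) ((χ : Cfsg.Spor.Fi22 → ℂ) ∘ e))
    rw [h3]
    exact h2

theorem exists_pair [IsSimpleGroup S] (e : S ≃* Spor.Fi22) :
    (∃ χ : IrrCharacter S, charDegree (χ : S → ℂ) = 3080 ∧ ww (TK e) (χ : S → ℂ) = 702) ∧
    (∃ χ : IrrCharacter S, charDegree (χ : S → ℂ) = 13650 ∧
      (ww (TK e) (χ : S → ℂ) = 342 ∨ ww (TK e) (χ : S → ℂ) = 1926)) := by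
  classical
  have C := Inst.ctx e
  have hcl : Cl ((TF (TK e)).image e) := by
    intro t ht g
    rw [Finset.mem_image] at ht ⊢
    obtain ⟨s, hs, rfl⟩ := ht
    refine ⟨e.symm g * s * (e.symm g)⁻¹, cl C s hs (e.symm g), ?_⟩
    rw [map_mul, map_mul, map_inv, e.apply_symm_apply]
  have hcard : ((TF (TK e)).image e).card = 3510 := by
    rw [Finset.card_image_of_injective _ e.injective, card_TF C]
  obtain ⟨h1, h2⟩ := H456.LD.Fi22Om.exists_om hcl hcard
  obtain ⟨χ₁, d1, w1⟩ := exists_tr e (Q := fun z => z = 3510 ∨ z = 2106 ∨ z = 702) h1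
  obtain ⟨χ₂, d2, w2⟩ := exists_tr e (Q := fun z => z = 3510 ∨ z = 1926 ∨ z = 342) h2
  have a1 := adm C χ₁ (by rw [d1]; norm_num)
  have a2 := adm C χ₂ (by rw [d2]; norm_num)
  have b1 := a1.bd
  have b2 := a2.bd
  rw [ww_cast C χ₁.2] at w1
  rw [ww_cast C χ₂.2] at w2
  constructor
  · refine ⟨χ₁, d1, ?_⟩
    rcases w1 with h | h | h
    · have h3 : ww (TK e) (χ₁ : S → ℂ) = 3510 := by exact_mod_cast h
      rw [h3] at b1
      norm_num at b1
    · exfalso
      have h3 : ww (TK e) (χ₁ : S → ℂ) = 2106 := by exact_mod_cast h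
      rw [h3, d1] at a1
      have h4 := okw_of_adm a1
      revert h4
      decide +kernel
    · exact_mod_cast h
  · refine ⟨χ₂, d2, ?_⟩
    rcases w2 with h | h | h
    · have h3 : ww (TK e) (χ₂ : S → ℂ) = 3510 := by exact_mod_cast h
      rw [h3] at b2
      norm_num at b2
    · right; exact_mod_cast h
    · left; exact_mod_cast h

/-- **The row `Fi22`.** -/
theorem row_Fi22 [IsSimpleGroup S] (hna : ¬ IsMulCommutative S) (h : Spor.IsoFi22 S) :
    Cfsg.Agent.H954.LD.CopRow S := by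
  have h2 : Nat.card (Out S) ≤ 2 := by
    apply H489.card_out_sporadic
    unfold IsSporadicGroup
    tauto
  obtain ⟨e⟩ := h
  have i11 : Fact (Nat.Prime 11) := ⟨by norm_num⟩
  have i13 : Fact (Nat.Prime 13) := ⟨by norm_num⟩
  obtain ⟨⟨χ₁, d1, w1⟩, ⟨χ₂, d2, w2⟩⟩ := exists_pair e
  obtain ⟨P, K, NE, X, ε, d, k, D⟩ := exists_D11 e
  obtain ⟨P', K', NE', X', ε', d', D'⟩ := exists_D13 e
  obtain ⟨⟨β, hβ, hβw, hβu⟩, κ', hκ', hκw⟩ := find11 hna e D d2 w2
  obtain ⟨α, hα, hαu⟩ := find13 hna e D D' d1 w1 hκ' hκw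
  refine H954.LD.copRow_inv hna h2 (α := α) (β := β) (by rw [hα]; norm_num) (by rw [hβ]; norm_num)
    (by rw [hα, hβ]; norm_num) (H954.LD.inv_of_unique fun ψ hψ => hαu ψ (hψ.trans hα)) ?_
  intro b s
  have h3 := hβu (H954.LD.tw b β) ((H954.LD.charDegree_tw b β).trans hβ) (by rw [ww_tw]; exact hβw)
  rw [← H954.LD.tw_apply, h3]

end Cfsg.Agent.H618.LD
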