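import Cfsg.Agent.H618.LD.Num

/-!
# S4910, row Fi22 (helper618): the search for three unknown characters and one exceptional one
-/

set_option autoImplicit false

namespace Cfsg.Agent.H618.LD.Use

open Cfsg.Agent.H618.LD.Num

universe u

theorem sort3 {α : Type u} [DecidableEq α] {F : Finset α} (hF : F.card = 3) (f : α → ℕ) :
    ∃ a b c, a ≠ b ∧ a ≠ c ∧ b ≠ c ∧ F = {a, b, c} ∧ f a ≤ f b ∧ f b ≤ f c := by
  obtain ⟨x, y, z, hxy, hxz, hyz, rfl⟩ := Finset.card_eq_three.1 hF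
  rcases le_total (f x) (f y) with h1 | h1 <;> rcases le_total (f y) (f z) with h2 | h2 <;>
    rcases le_total (f x) (f z) with h3 | h3
  · exact ⟨x, y, z, hxy, hxz, hyz, rfl, h1, h2⟩
  · exact ⟨x, y, z, hxy, hxz, hyz, rfl, h1, h2⟩
  · exact ⟨x, z, y, hxz, hxy, hyz.symm, by ext s; simp only [Finset.mem_insert, Finset.mem_singleton]; tauto, h3, h2⟩
  · exact ⟨z, x, y, hxz.symm, hyz.symm, hxy, by ext s; simp only [Finset.mem_insert, Finset.mem_singleton]; tauto, h3, h1⟩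
  · exact ⟨y, x, z, hxy.symm, hyz, hxz, by ext s; simp only [Finset.mem_insert, Finset.mem_singleton]; tauto, h1, h3⟩
  · exact ⟨y, z, x, hyz, hxy.symm, hxz.symm, by ext s; simp only [Finset.mem_insert, Finset.mem_singleton]; tauto, h2, h3⟩
  · exact ⟨z, y, x, hyz.symm, hxz.symm, hxy.symm, by ext s; simp only [Finset.mem_insert, Finset.mem_singleton]; tauto, h2, h1⟩
  · exact ⟨z, y, x, hyz.symm, hxz.symm, hxy.symm, by ext s; simp only [Finset.mem_insert, Finset.mem_singleton]; tauto, h2, h1⟩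

theorem adm_lt {d : ℕ} {w : ℤ} (h : Adm d w) : d < 100000000 := by
  by_contra h1
  have h2 := h.sq
  have h3 : 100000000 * 100000000 ≤ d * d := Nat.mul_le_mul (by omega) (by omega)
  omega

theorem use {p q m : ℕ} (hp1 : 1 < p) {D : List ℕ} {tab : List (ℕ × List ℕ)} {rs : ℕ → ℕ → Bool} {T : Tst}
    {KN : List KD} {K : ℕ} {S : ℤ} (hD : D.Pairwise fun x y => ab x < ab y) (hDD : chkD p q m D = true)
    (ht : allL (fun x : ℕ × List ℕ => chkRow rs x.1 x.2) tab = true) (main : tri D K (gg q m T KN tab) = true)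
    (hK : (K : ℤ) = 400000000 - S) {α : Type u} [DecidableEq α] {F : Finset α} (hF : F.card = 3) {c w : α → ℤ} {Θ : α}
    (hadm : ∀ χ, χ ∈ F ∨ χ = Θ → Adm (c χ).natAbs (w χ))
    (hrs : ∀ χ, χ ∈ F ∨ χ = Θ → rs (c χ).natAbs (w χ + 3510).toNat = true)
    (hbit : ∀ χ, χ ∈ F ∨ χ = Θ → m / 2 ^ ((c χ).natAbs % q) % 2 = 1) (hcp : ∀ χ ∈ F, (p : ℤ) ∣ c χ - 1) {kn : KD}
    (hkn : kn ∈ KN) (e0 : S + ∑ χ ∈ F, c χ + c Θ = 0)
    (e1 : (kn.C : ℤ) - 100000000 * kn.W + ∑ χ ∈ F, c χ * (w χ + 3510) + c Θ * (w Θ + 3510) = 0)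
    (e2 : (kn.C2 : ℤ) - 100000000 * kn.W2 + ∑ χ ∈ F, c χ * (w χ + 3510) ^ 2 + c Θ * (w Θ + 3510) ^ 2 = 0)
    (hne : cd (c Θ) ≠ T.A) (hne' : cd (c Θ) ≠ T.c₀) :
    (∃ A ∈ F, cd (c A) = T.A ∧ ∀ A' ∈ F, cd (c A') = T.A → A' = A) ∧
      (T.n₀ = 1 → ∃ A ∈ F, cd (c A) = T.c₀ ∧ (w A + 3510).toNat = T.w₀) := by
  obtain ⟨x, y, z, hxy, hxz, hyz, rfl, h1, h2⟩ := sort3 hF fun χ => (c χ).natAbs
  have mx : x ∈ ({x, y, z} : Finset α) := by simp
  have my : y ∈ ({x, y, z} : Finset α) := by simp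
  have mz : z ∈ ({x, y, z} : Finset α) := by simp
  have ax := hadm x (Or.inl mx)
  have ay := hadm y (Or.inl my)
  have az := hadm z (Or.inl mz)
  have aΘ := hadm Θ (Or.inr rfl)
  have hs : ∀ g : α → ℤ, ∑ χ ∈ ({x, y, z} : Finset α), g χ = g x + g y + g z := by
    intro g
    rw [Finset.sum_insert (by simp [hxy, hxz]), Finset.sum_pair hyz]
    ring
  rw [hs] at e0 e1 e2
  have hR := search hD (fun a ha => allL_iff.1 ht a ha) main hK (adm_lt ax) (adm_lt ay) (adm_lt az) (adm_lt aΘ)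
    ax ay az aΘ (hrs x (Or.inl mx)) (hrs y (Or.inl my)) (hrs z (Or.inl mz)) (hrs Θ (Or.inr rfl))
    (chkD_spec hp1 hDD ax (adm_lt ax) (hbit x (Or.inl mx)) (hcp x mx))
    (chkD_spec hp1 hDD ay (adm_lt ay) (hbit y (Or.inl my)) (hcp y my))
    (chkD_spec hp1 hDD az (adm_lt az) (hbit z (Or.inl mz)) (hcp z mz)) h1 h2 (hbit Θ (Or.inr rfl)) hkn
    (by linear_combination e0) (by linear_combination e1) (by linear_combination e2)
  have mem : ∀ s, s ∈ ({x, y, z} : Finset α) ↔ s = x ∨ s = y ∨ s = z := by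
    intro s; simp only [Finset.mem_insert, Finset.mem_singleton]
  constructor
  · rcases cnt_one hR.a with ⟨k1, k2, k3, k4⟩ | ⟨k1, k2, k3, k4⟩ | ⟨k1, k2, k3, k4⟩ | ⟨k1, k2, k3, k4⟩
    · refine ⟨x, mx, k1, fun s hs' h => ?_⟩
      rcases (mem s).1 hs' with rfl | rfl | rfl
      · rfl
      · exact absurd h k2
      · exact absurd h k3
    · refine ⟨y, my, k2, fun s hs' h => ?_⟩
      rcases (mem s).1 hs' with rfl | rfl | rfl
      · exact absurd h k1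
      · rfl
      · exact absurd h k3
    · refine ⟨z, mz, k3, fun s hs' h => ?_⟩
      rcases (mem s).1 hs' with rfl | rfl | rfl
      · exact absurd h k1
      · exact absurd h k2
      · rfl
    · exact absurd k4 hne
  · intro hn
    have hc := hR.c
    rw [hn] at hc
    rcases cnt_one hc with ⟨k1, k2, k3, k4⟩ | ⟨k1, k2, k3, k4⟩ | ⟨k1, k2, k3, k4⟩ | ⟨k1, k2, k3, k4⟩
    · exact ⟨x, mx, k1, hR.x k1⟩
    · exact ⟨y, my, k2, hR.y k2⟩
    · exact ⟨z, mz, k3, hR.z k3⟩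
    · exact absurd k4 hne'

end Cfsg.Agent.H618.LD.Use
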